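import Cfsg.Agent.SporadicStructure.PermChain
import Cfsg.Agent.SporadicStructure.U43Herm
import Cfsg.Agent.SporadicRecognition.CosetCert
import Cfsg.Agent.LargeExtra.W2.U43.CertAll_m3
import Cfsg.Agent.LargeExtra.W2.U43.Defs
import Cfsg.Agent.LargeExtra.W2.Graph
import Cfsg.Agent.SporadicRecognition.CosetCertHyp
import Cfsg.Agent.SporadicStructure.PsuMatch
import Cfsg.Agent.S0280
import Cfsg.Agent.S0283
import Cfsg.Agent.SporadicRecognition.HypFast
import Cfsg.Agent.LargeExtra.W2.ThreeLocal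
import Cfsg.Agent.Lib.KleinGen
import Cfsg.Agent.Lib.ListFast
import Cfsg.Agent.TwoFusion.ClosingPrime
import Cfsg.Agent.StrongEmb.Strong
import Cfsg.Agent.LargeExtra.W2.U43.Fusion
import Cfsg.Agent.FastGrp
import Cfsg.Agent.Prune
set_option linter.all false

section
prune_inst 0x7ffcfefbeffdbffeffff7e7fffffdffff9fdffffffdffffbfffbffffffff6befbbedfbafffe6d8fffef7e2be30b87853fffffeffef6ffc7ffffdfff45fffee1ff7ffbfad71ffbcbe1ffe6ffffbfb7fdfffffffffffffffffffffffffffffffffffffffffffff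

-- part: LargeExtra/W2/U43/Ident
section
prune_inst 0x201000000000100000000000000000400000000200000000400000000140040000000000800000100000000400300000000000000010000000000000011c00800000000000000000010000000000000000000000000000000000000000000000000000000
set_option linter.all false
open scoped Cfsg.Agent.FastGrp

-- part: LargeExtra/W2/U43/PermModel
section
/-!
# `U₄(3)` as a permutation group on the `280` isotropic points: a model of the presentation (helper926)

Letters `i I z x X y Y s d D e E` = `0 .. 11` as in `CertData`, `12` = identity, `13 .. 20` = `j J k K l L w W`.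
-/

set_option autoImplicit false
set_option maxRecDepth 100000

namespace Cfsg.Agent.LargeExtra.W2.U43.PermModel

open Cfsg.Agent.SporadicStructure.PermChain

/-- i -/
def t0 : ℕ := 0x2b92ddf07741494ac11743ce6ec58394541b663f820f670ae8ee352b358f0094b20806886d049fe6a223e56c7b61811dcb418bc0946454b204275062350a804c10956328bba624c00a97c009040a68d0b12f0a0607685aed8c6c750e1445461455e8fc2314202720e374c0711f33d2694492443c6f4f98da2708127876dc8198943001e874c2a06737828ac0d4589c3411b898b0c5a814b60a5c955f6d5730e45217829694e843fa39122c79b288e6e63b7c1f0826c51ae407584d3a4565a6d2e8b47c41a80b3392608195f28e226b833c44c66039f53287008e9f4083c90592ae070817ae0693dc565d43229388359aa9b24f620954cf20b3d57e5129adc5a7a7c0461acd76819484c2e38da6af5e0886d0a0c1204859460092a7e7e9f2266d19b9dc8b81399550581b9d01b09569a5b03f59438862f1e341b61f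
/-- I -/
def t1 : ℕ := 0x6da6984760cb64c26a8701862946589018788a17d0e6553aad7aa47ac1836c046955e4332541074c13f8f0bcea8abb45f0c39b1db5130b22e14151525a064c3d27974a800bdc82093abf918691492d5a025b27c6107379f8a2e63db252a3f77b0e20d81c98c9a27654091e141b3c526ec2181da10b14140169c6e909ce11428f6222d313154aa057aa8e24537348b2df36bec3ab45aacd64d435a09c41f3611902f82c11dc284223e9a6e041870b41a780d0a6fd80b31c80e86af170ac581f030c8303d014d13397024e85729942b96b33c902b48a1840108bbfd1cc41bc4870be20264ee2c8b3a4cc223eafce0f302b78a474042dd46035495914c60789600980bb71d6cd0243c6a8024c2512ce099747c214b899ca4e002c544bb8426cc823440edae9d393d865053c93c1ae334241f8542d8b924ee7c878aed5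
/-- z -/
def t2 : ℕ := 0xb4986cc3210542f4030b9d6b437885c6fd3b358b01242b749a2d1d17e10d871238781774994ad104180d9ec7610bc0894869edee191d9b048d784bed4e2c1a2aa04112b928a4fc724183e0a44c58161e78abd9b1458070708b781443a088abbcd409452b8ee133f2acd69d129796b0c0296c04cb672f8d0455d3782c3270a8cc2355325622a01410970703e12c407a0c23544ec4990c0e69303e92c00642fda633081f6068479954524c222ed0c9b752606e1b5ec1c2a4f1889c289c8586846e65cb0520ad338aded13280f54a8f7f2d844495911c9d056dbd5043f07b658c633a16602804d368b8262d0e5587f4927a240e2a0d8c4f973bfc8cc93c8f948df442a0e6307743a00e033031029f391216ee53697614996ab418aca3c1b9d0977c2a4ea715e411b887299001a2a68b5180c448c3d66ed792c62e8c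
/-- x -/
def t3 : ℕ := 0x78bc9def089c4a2310020140c072f970ba5e2291888473b1d0ee755c2dd6cb94b2612e95193d9eaf47982c1409044321b0e87a9d50a6548804223112351e90471349e4e261b0dc6b368e400010100da4d36a3559ac762b218cbe603057ec36131192cc65b29bcdb6e374e071379c926914a2483c1d0f872010381404c26330188763c1e8f942a04fa7828d86cb5db4341a8dc6c2e180c45e783d9e8f2af572c1630682c120e8441a09021308044245270b7dc4e0552b15aab2dbf5fefc7f26d34994e0e0362d33998ca6474ba1ceea1289c4c24219f4fc7f40158aa5429868d4f75d2ed7abc72399cae3432210a873990882401f85c32180b27466517dbe1f2fa6b14164b55a2cc2a69158a8522884426170a25920924a46225148b161f146a451294d03a2b968b258078381a0c8b45e2915773b5d8eb68b419ece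
/-- X -/
def t4 : ℕ := 0x502c100989c4a231075bb1daee128904c2742a210e86562ad54ad389bce4701b8d06a36283d9eaf479c5a2f148a81c0c0502180c66230928924b241e4f6783d2f574bb5e265369c4d0cd9ccf683440602008019ac05faf982ca6632596c26230d8cc762b209a4c2713df8ff7f3f4602f170c5128a4622cea763a1ddcee9753a02c180c85d42a04fa78746b371b4d8fa7cbedf0b35aac968e070b7dc41f0e0743c462211c8a8441a0902572c164b41a47a391a9080c0e010221ad970b95bb65aeda6c144581533998ca645429952a785c22130a39848221009958aa54299f070326eb71bcdb1188042228241a0f052d90882401fa8946a452851ac6a4b2552e981cbdd249348a50d01b158a852282f174be5c7238dcae657ac560ae349487a3c1f0ec5a9d401f4fc7f078381a0c793c5e0ef864361d0f6934da8d5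
/-- y -/
def t5 : ℕ := 0x59b5a128b20279e665263c426723aa3586ee6e4582cc92c8f5b2fe010b45e202e35560e47544102f6508cc5c1c133f4ae0a5e3a4f6ab221ac6e178a924a0b246068c476769c09a997c3491cec4ec188c14871e99ac87cbc02514651f46a2271920b4be4b824f90d563a1ccd3342446027008b1fe3c4c3016e7e0c9ba0a8f319d020c527a6906a02a90512da5ea55f8ce4542896d44986cbc311907c42346606170f252b189c0d88a7cad0f73914a2777babdca924d844dea3482d1a04a0ab786cb93611ce6253394de80e70c090ea88001d88e2701a90aa9020a4502a15c050ca75340ca40651271f6ef6082d763b3c4488464061b5bacb3fac5a3041208c3a0001980d2b58433cbe5b078fdea82863095a791f0212cd87d1c548c721aa974bf6b962161e758e20e613344d08541ca515c5d5b2022edb440e80adf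
/-- Y -/
def t6 : ℕ := 0x2c19c6c80710906f64033d78270aa5a2a2f08b49523827188a45f58c01dc992487d96d73dbd0526588a221cca24421b6d409bddd4ba3fae4f2f861970c65b001b87b070227202200bc59f4945c3587271172619a8b1e31e08cc0e219485d848988eae0c30136eb22864d8895681c60728bb8074f93d0244abb74068b0602813d0e1d3a12de6a041449a64a3ba89b0af5f885340a499e16c735435614df8a25d3a0330944b20d508a1ea061dab18cbd74b3848433e37216a634c303cda3aaa87c6b7316862b73383e204053b74203216a4410fb16306061676a053e0c33134fae151a15b30f4a9c1c4c235344fce70d9053d131508e04b0220081612729b58a8c7923d20b57ebc5fcb229950ac555a3bcd0371b3111afc470506af049379568a72414ded086b24eca515991083f233b17c222f130025719bfd6634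
/-- s -/
def t7 : ℕ := 0x7c8104280323fda0ab642d862857730d1a751936d52125a031307b893a42ac03507e2ef02f86502ba38b680ef86142da4a7398b5fc656fac848ca4b305286b73868548f833c95e090e15d1c63143b4db1148949404c59b91930f0b9757686853bdc4fc56a650e6962bd058820c4381b0365b993c056c8817ea4881ba0a76760ad36ac3306c3ccd44ac4aa3352a497d0112b8cf0e133a699e136e356127f031a13e705eb1218300a2e1eb1446074106180134f295082a2105375965e68817aa9a25b703ed788a49a8dd1136a150f8117b8b98c5a36170e4166b0a53a623a338440a0789cf4cc2180c8e48248f86a002580874401e9187e011a1046c381b8e48a3b4e41e1a8437979d4b953374acd3270992ee5059462aae7d284fcd751379ecb763961fa8348410c077278396b0211941b07d78a2d6116251087844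
/-- d -/
def t8 : ℕ := 0x44b1ca60666c20bc27472a21af65883cc6fe0f37cb084329a0f46f0ac49d2c05bb30507f20889ea4e479dce20033909e0c318c2c745d6bb816a576a0622ade6539914071da1d5efc6b39e282b3f05c170e79b381c8b56419ca1f222d1f2ba3a24c4ad82e264f069009c954052a41d92191aae5d4a4292f88e822cac952d010a35389d84b685c405dc016043441855d011f941e50a1326c28906793014d27d1683a9251441d0376e32c52c8020f1567077260244a4aa85eeec75b10224b4f1b0da6b3725c264924258a2a051b0466917f8c90a0c16374fa161a20566fb70b660666538209b0f3e2f604ef150d97116529ecea6435119c4d30e3f47224820f8aae44d444e679011d85e1a71ab4acc543308c40d68c309e20402da2edb0196d8c3d46414be605e0c1e21b4a44c70bf11a9812f441b548af8080b53eed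
/-- D -/
def t9 : ℕ := 0xe911c2d5073f86486263421a227525147125b3282c3728925309e2fc2074d82a22d8a043ac31ea0867a5422ed241ec007439ac5fa856b3799234158f4a6e683380b4830e288a4c073b5c0ce31e23046a847b3a26fa4137d6a808b064507276098c4fc062b894134fb1164457d879cac62aaaa169d6ca6454cb3eae5530e2782886b031a1cec64009bd48a5490cd7c7a35198ee0f61220c09079c3d4c17663762e9b6d09cbb0403ab0ac1f7c34cb24b2140460bd790b882c318ae9e27c801acda6e360fd79027794206408489534140ac45d0bf0d2295705720a46ab78aabcca9610bd09a8e381e0d067568f80ac74e3b9eea04b8d8307e6dba4720d42119665730979d61216a84045b6a11d02f98824d823805bd94e206441d123b080b168e269161fe91349e4e20385334485c68a34124e6e451707f0d8bd76f0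
/-- e -/
def t10 : ℕ := 0x8512966280716db2705c4387e271ac005aa43b3a02c4e1c2b83d1743a58fc902d378f61b65c599af205b599e2b2408a20796ea34029c41279a84f74b88c64287835b0a819ae872eb333d108944022202362f3cc529d109e0b2e73a3f45e6f7cbbd826212c3624206215cc2df5fad835032fa956509681a43075690c0ce32763e162080e3c130813fa6c89067314c7a6d568f1c8e582b1c0e5483aa80a894622916ab36316086e1f320ac3b03319582c619194e0f0123cfa9204b24a4ed5db5542ff3b92604682c10db7131204c82608abc43a6a5e91ce4a96d28098fc0b88e16374aa15060051bd8b8c27d851dccc6b84172405f13462fe699f222b4052bca31432b71328e43245603a511cdea34090996ee138915ee0c5ab442a4b5307c06974d24cba7a6043022e065191f4bc6714055081727dd419021adc655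
/-- E -/
def t11 : ℕ := 0x803d8be34322f472ed6fc397c1228c5d600847a7126855a1a5a30a360f18c542383586a61092852d6673d0bca261114e0a76c015c7066426d289500b8848105c3e9d6323295e22dd21bc8dce51daac3caf7882dea447b83ce482491f90cbb3d92182135b8fcb60c37b68830f12ad83e388aac54a2d1b4092e7d44238b0dc3c86d6508258acda560339998e84f05c62a10c3f89ed40b1d05cfc3b0c1d48b44a2918d27f8bc9cd526b9d40d34fbf4ea3a7c851d8ca35c1d58c7151644710622113087011715c6854b5c660e70b01726059b3c2a49893ed92675d20400904d1c46a0a724107c550e458d4ef2d1e8449d33380c24086a0d3296400b1b3032834216286daa07aaa6281e127c780259b14860997e63293b996bc0d404baa37c2d408ad29c143a463109c22423c44dbc20798dce6a4489fd1a030c9ddd24c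
/-- 1 -/
def t12 : ℕ := 0x8bc5a2b1489c4a231087c3a1b0c85c2a130883c1a0b0481c0a03007fbf9fafc7dbe9f2f87bbd9eaf479bc9e2f077bb9daec75ba9d2e873b99cae471b89c2e06fb79badc6db69b2d86bb59aad469b49a2d067b399acc65b2992c863b198ac461b0982c05faf97abc5dae972b85bad96ab459ac962b057ab95aac55aa952a853a994aa451a8942a04fa793a9c4da6932984ba592a9449a49229047a391a8c45a29128843a190a8441a0902803f9f8fa7c3d9e8f2783b9d8ea74399c8e270379b8da6c359a8d26833998ca6431988c2602f978ba5c2d968b2582b958aa5429948a250279389a4c259289248239188a442190882401f8f87a3c1d8e872381b8d86a34198c86230178b85a2c158a85228138984a241188842200f8783a1c0d86832180b8582a14098482210078381a0c058281208038180a04018080200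
/-- j -/
def t13 : ℕ := 0xdc007e6b5306876c95924618eb7c17090db30288887d7e1d13cd20a314ae8529b7c2a6f0e169703843b910045042480a735a271943d888c856031303d805e471dc9e8b7eaecf9037925450270f0b430d3262316ab9443dde8dc56304beef2a310a2a71f265bc902503a28561cb819b0d76818523300080daf0202f4c2e604991529a89b59cea06a935ea7b6c8d55c82688de0c31180bc5c13838d0f2af088d9a0b041c11b084081e962cf82b682452381552d175523df2dd4a351feea0bc48d0a866319782333b948ea3273a02c760e8b0542187994c67f8427531157126cd4598114084f1521fa14e37b2dd8e5877404dcba61a283275509c44b1046afc96fa659b1d8932181e2cb612088041f054248c665683092be4fa25fce900904c40b85a94783a34a1990f37daac1a5d4b9c9c2c28716c08b36ba04f0ce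
/-- J -/
def t14 : ℕ := 0x3c0b4a8b9519b9ce382d81d690d0b9244c5747a54fe866c13c851638875b703078d0eb0b6511d3ac90835c98ac6210d6631861c0386250aa0ccf22414c12b67d2f4e8c8841f9368501a893e72684012e89400016a6b19ba62011229a9fcc21f8218ce11b08154696d10198f5230b19aeb0243d02884626446c7071dd4a6c6044c2c4b3241876a00fc04acea292917c55059e5ac73183ba1cbc3b37c6ece6e0f83ccb79849f88443a6004f12c12a08d94e2091a016f180790276028747b7c1055a328a144266d33890b4a62c865530762b80190a033d8a0447eae0f4c37d9f1824e6e98d3ccf1aaec430932895e1051793434ab8aafdd015888516ef44b229348e58399289349245a45e7297562d56a38c722b340a8b8ae1434cbef78bc487ad137985f2ff481f51683712e81a220c09d4eef172c9da05720a436af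
/-- k -/
def t15 : ℕ := 0x251bdcab97b0a53c0c2da4462ec8b3bcd41c303e468e870a3476176700d94c0559fdad006d9913e2a2abf9cc701081524b439ab0ae1280b3d86c560ae90adc829852c2c74c5d12090e8f13a996cc2c4a9b360e99a6b4d420ba5e4e099ae5c1242a12d83689d52630dbed98d568b216a947743c344b7f9c87c7b71294ee8081969bc882385484842b2843ef00f2c014101cc08eb0c498105c4e83911ba715b08ca4354c1894ea0413ce2432471e07ad022a1c9ebb0b23d447986af800c7692c514f18a38cb236068fe2665099f554767922c70080328d20df7b8a106662034c90bc1b9a5cea86580588c65325dd4fa76c45020f159a10d0626abc30223a2b4665852131d6305981df0112a44082f55714417155fb2584d45c1f1c8fd3f00a084616af52a8c28065c07a0714ccef45b881f849872c85e432f9b9b414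
/-- K -/
def t16 : ℕ := 0x6d42c486b32a04842a5901ce6946930982ca478f1be1953a59cef857bc838095d1120c2d2bc4c500c4117cd89c852cc870c18915b70426bc62a1d352ae06112c2951ae07b805a6c062be57020291bd6e7c733fd9ab925bf444b638121c84972885c6fc119c82c503c38a281f05a2d6aec17818dc9a1d09c6cea7d9857a4c4291d54332d1d53c847ac45aac76832da887233742ab449bb61c593b1fe04142f1b5b2a43d0f5c2a02aa0c82a87d06cc41e56040e87e549812a3775ab918f08b0097ecf664249c3e06950c8f65e219bd0701b2192c487a98d23474a7de62b072244c133ca4076325845c105151860f68e022845253332b4fad680b392e5d279a111051aa021a3002a442edc1fbd224565f319a2c3450e1de0a4ea6daf085dac42439801dd440031ba058982003ccf1012a65b05c1716ddc927f0689471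
/-- l -/
def t17 : ℕ := 0x7eb2c8e913320c5040479ad4e094d188f3172d854f8c418b1970886f39002ec2ea2544353f1513c0e893156c2f433c1d4d87081176496aa2d465f1b88a1a4c680e8a2320db2888947f1d476277d2c114342f2959a076912974e67737406122d1f49f0c6888028697b8e21c4d11b3d6ac03841cf51630a648c9264bfc00dc75b955ef8120f13e0d8895a02b3829bd7cb11f099f2fc4991598bc0334c90a93602d1c2d0d308e667208a504e06cba5de5876809c6db38aca0cc181b517a0525a1d6ec8171d02639421907e2b270859d0f6bbc5c4e83b454c69b3c1090265151fe0459351413a2c858703296619a08652563d5e6f47b06214950faa95aab84a5c2e1e800450a3063ae466808983caaa105234daa612bec7aae73b7de4da2b840b83652231ac7748021506e0644140535f9c969048a181387b0ea621016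
/-- L -/
def t18 : ℕ := 0x842c0b40715bcd3e0e302e5c2c0258f46e01591d53608399453a335535e2e941134d2aa45d8fc844020874bcee3eb1cf6fc53bb4fc5c0fb214cfe3c975d6800f3fd8ca83c070feec2f855ce724732d7edf5b1859a918b369566c17c09e50423a18e8b405a64e29074b245d0136bc56a094e1d930d25288072431c0e91811868919c1772be4500d50bd49a052c42d5c021b12078d849ab2281387a244c1673345f500373bc626789204aa2c293dd8505022c612570a16dac6a42828eeb34d0404a8b8713d78464244ca8662cc295e067233df61983b0ca07c0da7852f606111ba4e6098d70e037b29d08d8aab524d922959071032a5c42a26ab78d0ba71861f0d016b720630781ad104c3214d05116a25846a35bb88c4be1d8d0064a6da1c923e1a8020cbd34b10641a153d1400f4509e18126623ce0ea629e9faa9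
/-- w -/
def t19 : ℕ := 0x129cc8e9089a08500c4c965cc3242bbcf2bf05330f85c67c0876947f9d9144c1c1fc0ed84b999ea2a8916e1678433dc9411363f430e86aa69870f1bb24bc3382985bb001f08df480034509afe698c524d037b799a697082cbb160d8991e122d1f6122c3dbc952a256ae978b8562c16aa85dab962a75500d660155a9400a45b2995eb451ae53ea04f2853a571a435c81077144d6dc49870c6d6139118c77693a912c00d429e20d20bcd02f86c9a042df8421d82390b3505c7464074e2db81a61da4b09b8e0c05420fc56641e1899c7283b2dc4085f3942a9b1b15906658823890f9279d5ce17759b588961231e2e5265444aa407b1c07a910f8e9e022352721858048d5163074939d8882a03c524262a348b15023ed84d780878c0d1231e8322f7e2321c144a9245a6e7a038ce532197dc10428080fcda590096ebd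
/-- W -/
def t20 : ℕ := 0x22b2048d689bcc845372055343578a19827b2f9a5be0837c083edc7fb51d41711364a080770fdea0f412f90a398525cda2d25a285ee826c34b4993517596093e339ba9438010fef810241ce7669a2c38d0819859b062f10dc473232344e4972884f2888416c00b959ae944b800a9d6aa45680d62b652ac976b755abd7ab45829954a851af13ca050a7d3a362c39a1e6e7b920270049b447914629484c1618bf5122c3d3be16672ac4902d87d01585055f86a12f0463f89c748b180e23e6784094eb4a8dd987e06bd8a86448989bc1d0538593047930e1c344e158822b061112c07278b9aafc363b424518a86c4a8e058a106403336c7a63808e8f0fb7195c649b70431a4300c1d422c032bd0531147b1a2e476d0e0fa061d878e49263a1c32e9261dcb21435b11d8981503909106541c665c7cb5cd0235700958a9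

def tabs : List ℕ := [t0, t1, t2, t3, t4, t5, t6, t7, t8, t9, t10, t11, t12, t13, t14, t15, t16, t17, t18, t19, t20]

/-- the inverse letter -/
def ivl : List ℕ := [1, 0, 2, 4, 3, 6, 5, 7, 9, 8, 11, 10, 12, 14, 13, 16, 15, 18, 17, 20, 19]

def chkAll : Bool := allBelow (fun n => permCheck 9 280 (tabs.getD n 0) (tabs.getD (ivl.getD n 0) 0)) 21

private theorem _root_.Cfsg.Agent.KOad8df86.e0.{ku} {M : Nat → Sort ku} (φ : ∀ n, M n) {z : M Nat.zero} {s : ∀ n, M n → M (Nat.succ n)} (h0 : φ Nat.zero = z) (hs : ∀ n, φ (Nat.succ n) = s n (φ n)) (n : Nat) : φ n = @Nat.rec M z s n := Nat.rec h0 (fun n ih => (hs n).trans (congrArg (s n) ih)) n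
private noncomputable def _root_.Cfsg.Agent.KOad8df86.k1 : (by first | exact type_of% @Cfsg.Agent.SporadicStructure.PermChain.allBelow | exact Unit : Sort _) := by first | (refine @Subtype.val _ (fun g => @Cfsg.Agent.SporadicStructure.PermChain.allBelow = @g) (@Subtype.mk _ _ (@(fun x0 x1 => @Nat.rec.{1} @(fun x2 => @Bool) @Bool.true @(fun x2 x3 => @Bool.rec.{1} @(fun x4 => @Bool) @Bool.false @x3 (@x0 @x2)) @x1)) ?_); funext a0 a1; refine (_root_.Cfsg.Agent.KOad8df86.e0 (fun a1 => @Cfsg.Agent.SporadicStructure.PermChain.allBelow a0 a1) ?_ (fun c0 => ?_) a1 :) <;> (rfl')) | exact @Cfsg.Agent.SporadicStructure.PermChain.allBelow | exact ()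
private theorem _root_.Cfsg.Agent.KOad8df86.e1 : (by first | exact @Cfsg.Agent.SporadicStructure.PermChain.allBelow = @_root_.Cfsg.Agent.KOad8df86.k1 | exact True : Prop) := by first | (delta _root_.Cfsg.Agent.KOad8df86.k1; exact @Subtype.property _ (fun g => @Cfsg.Agent.SporadicStructure.PermChain.allBelow = @g) _) | rfl | trivial
private noncomputable def _root_.Cfsg.Agent.KOad8df86.k2 : (by first | exact type_of% @Cfsg.Agent.SporadicStructure.PermChain.look | exact Unit : Sort _) := by first | (refine @Subtype.val _ (fun g => @Cfsg.Agent.SporadicStructure.PermChain.look = @g) (@Subtype.mk _ _ (@(fun x0 x1 x2 => @Nat.mod (@Nat.shiftRight @x1 (@Nat.mul @x0 @x2)) (@Nat.pow (nat_lit 2) @x0))) ?_); rfl') | exact @Cfsg.Agent.SporadicStructure.PermChain.look | exact ()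
private theorem _root_.Cfsg.Agent.KOad8df86.e2 : (by first | exact @Cfsg.Agent.SporadicStructure.PermChain.look = @_root_.Cfsg.Agent.KOad8df86.k2 | exact True : Prop) := by first | (delta _root_.Cfsg.Agent.KOad8df86.k2; exact @Subtype.property _ (fun g => @Cfsg.Agent.SporadicStructure.PermChain.look = @g) _) | rfl | trivial
private noncomputable def _root_.Cfsg.Agent.KOad8df86.k3 : (by first | exact type_of% @Cfsg.Agent.SporadicStructure.PermChain.permCheck | exact Unit : Sort _) := by first | (refine @Subtype.val _ (fun g => @Cfsg.Agent.SporadicStructure.PermChain.permCheck = @g) (@Subtype.mk _ _ (@(fun x0 x1 x2 x3 => @Cfsg.Agent.KOad8df86.k1 @(fun x4 => @Bool.rec.{1} @(fun x5 => @Bool) @Bool.false (@Nat.beq (@Cfsg.Agent.KOad8df86.k2 @x0 @x2 (@Cfsg.Agent.KOad8df86.k2 @x0 @x3 @x4)) @x4) (@Bool.rec.{1} @(fun x5 => @Bool) @Bool.false (@Nat.beq (@Cfsg.Agent.KOad8df86.k2 @x0 @x3 (@Cfsg.Agent.KOad8df86.k2 @x0 @x2 @x4)) @x4) (@Bool.rec.{1} @(fun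 x5 => @Bool) @Bool.false (@Nat.ble (@Nat.succ (@Cfsg.Agent.KOad8df86.k2 @x0 @x3 @x4)) @x1) (@Nat.ble (@Nat.succ (@Cfsg.Agent.KOad8df86.k2 @x0 @x2 @x4)) @x1)))) @x1)) ?_); rewrite [← Cfsg.Agent.KOad8df86.e2, ← Cfsg.Agent.KOad8df86.e1]; (try delta Cfsg.Agent.SporadicStructure.PermChain.permCheck); (try generalize @Cfsg.Agent.SporadicStructure.PermChain.allBelow = g0); (try generalize @Cfsg.Agent.SporadicStructure.PermChain.look = g1); rfl') | exact @Cfsg.Agent.SporadicStructure.PermChain.permCheck | exact ()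
private theorem _root_.Cfsg.Agent.KOad8df86.e3 : (by first | exact @Cfsg.Agent.SporadicStructure.PermChain.permCheck = @_root_.Cfsg.Agent.KOad8df86.k3 | exact True : Prop) := by first | (delta _root_.Cfsg.Agent.KOad8df86.k3; exact @Subtype.property _ (fun g => @Cfsg.Agent.SporadicStructure.PermChain.permCheck = @g) _) | rfl | trivial
private theorem _root_.Cfsg.Agent.KOad8df86.e4.{ku, kv} {α : Type kv} {M : List α → Sort ku} (φ : ∀ l, M l) {z : M List.nil} {s : ∀ a l, M l → M (List.cons a l)} (h0 : φ List.nil = z) (hs : ∀ a l, φ (List.cons a l) = s a l (φ l)) (l : List α) : φ l = @List.rec α M z s l := List.rec h0 (fun a l ih => (hs a l).trans (congrArg (s a l) ih)) l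
private noncomputable def _root_.Cfsg.Agent.KOad8df86.k6.{ku0} : type_of% @List.get?Internal.{ku0} := @(fun x0 x1 x2 => @List.rec.{(ku0+1), ku0} @x0 @(fun x3 => ℕ → @Option.{ku0} @x0) @(fun x3 => @Option.none.{ku0} _) @(fun x3 x4 x5 x6 => @Nat.rec.{(ku0+1)} @(fun x7 => @Option.{ku0} @x0) (@Option.some.{ku0} _ @x3) @(fun x7 x8 => @x5 @x7) @x6) @x1 @x2)
private theorem _root_.Cfsg.Agent.KOad8df86.e6.{ku0} : @List.get?Internal.{ku0} = @_root_.Cfsg.Agent.KOad8df86.k6.{ku0} := by delta _root_.Cfsg.Agent.KOad8df86.k6; funext a0 a1 a2; refine (congrFun (_root_.Cfsg.Agent.KOad8df86.e4 (fun a1 a2 => @List.get?Internal.{ku0} a0 a1 a2) ?_ (fun c0 c1 => ?_) a1) a2 :) <;> [(funext b0; (rfl')); (funext b0; (cases b0 with | @zero  => (rfl') | @succ b0_0 => (rfl')))]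
private noncomputable def _root_.Cfsg.Agent.KOad8df86.k7.{ku0} : type_of% @List.getD.{ku0} := @(fun x0 x1 x2 x3 => @Option.rec.{(ku0+1), ku0} @x0 @(fun x4 => @x0) @x3 @(fun x4 => @x4) (@Cfsg.Agent.KOad8df86.k6.{ku0} _ @x1 @x2))
private theorem _root_.Cfsg.Agent.KOad8df86.e7.{ku0} : @List.getD.{ku0} = @_root_.Cfsg.Agent.KOad8df86.k7.{ku0} := by delta _root_.Cfsg.Agent.KOad8df86.k7; rewrite [← Cfsg.Agent.KOad8df86.e6.{ku0}]; rfl'

theorem chkAll_eq : chkAll = true := by (first | (delta Cfsg.Agent.LargeExtra.W2.U43.PermModel.chkAll; rewrite [Cfsg.Agent.KOad8df86.e1, Cfsg.Agent.KOad8df86.e3, Cfsg.Agent.KOad8df86.e7.{0}]; decide +kernel) | decide +kernel)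

/-- the letters as permutations -/
noncomputable def P (n : ℕ) : Equiv.Perm (Fin 280) :=
  if h : n < 21 then mkPerm 9 280 (tabs.getD n 0) (tabs.getD (ivl.getD n 0) 0)
    (allBelow_spec _ 21 chkAll_eq n h) else 1

theorem P_spec {n : ℕ} (hn : n < 21) (x : Fin 280) : (P n x : ℕ) = look 9 (tabs.getD n 0) x := by
  rw [P, dif_pos hn]
  rfl

/-- right-associated product without a final `1` -/
noncomputable def pr : List ℕ → Equiv.Perm (Fin 280)
  | [] => 1
  | [a] => P a
  | a :: b :: l => P a * pr (b :: l)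

theorem pr_eq (l : List ℕ) : pr l = (l.map P).prod := by
  induction l with
  | nil => rfl
  | cons a l ih =>
    cases l with
    | nil => simp [pr]
    | cons b l =>
      show P a * pr (b :: l) = _
      rw [ih]; simp only [List.map_cons, List.prod_cons]

/-- two words are equal on all points -/
def eqW (l l' : List ℕ) : Bool :=
  (l.all fun a => Nat.blt a 21) && (l'.all fun a => Nat.blt a 21) &&
    allBelow (fun x => Nat.beq (evalWord 9 tabs l x) (evalWord 9 tabs l' x)) 280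

theorem prod_eq_of_eqW {l l' : List ℕ} (h : eqW l l' = true) : (l.map P).prod = (l'.map P).prod := by
  unfold eqW at h
  rw [Bool.and_eq_true, Bool.and_eq_true] at h
  obtain ⟨⟨h1, h2⟩, h3⟩ := h
  have g1 : ∀ a ∈ l, ∀ x : Fin 280, (P a x : ℕ) = look 9 (tabs.getD a 0) x := fun a ha x =>
    P_spec (Nat.le_of_ble_eq_true (List.all_eq_true.1 h1 a ha)) x
  have g2 : ∀ a ∈ l', ∀ x : Fin 280, (P a x : ℕ) = look 9 (tabs.getD a 0) x := fun a ha x =>
    P_spec (Nat.le_of_ble_eq_true (List.all_eq_true.1 h2 a ha)) x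
  apply Equiv.ext
  intro x
  apply Fin.ext
  rw [evalWord_spec tabs P l g1 x, evalWord_spec tabs P l' g2 x]
  exact Nat.eq_of_beq_eq_true (allBelow_spec _ _ h3 x x.2)

theorem pr_of_eqW {l l' : List ℕ} (h : eqW l l' = true) : pr l = pr l' := by
  rw [pr_eq, pr_eq]; exact prod_eq_of_eqW h

theorem P12 : P 12 = 1 := pr_of_eqW (l := [12]) (l' := []) (by decide +kernel)

/-- all relators hold -/
def relsOk : List (List ℕ) → Bool
  | [] => true
  | r :: L => eqW r [] && relsOk L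

theorem relsOk_spec : ∀ {L : List (List ℕ)}, relsOk L = true → ∀ r ∈ L, (r.map P).prod = 1
  | [], _, r, hr => absurd hr (by simp)
  | a :: L, h, r, hr => by
    have h' : (eqW a [] && relsOk L) = true := h
    rw [Bool.and_eq_true] at h'
    rcases List.mem_cons.1 hr with rfl | hr
    · exact prod_eq_of_eqW h'.1
    · exact relsOk_spec h'.2 r hr

private noncomputable def _root_.Cfsg.Agent.KOad8df86.k8 : (by first | exact type_of% @Cfsg.Agent.SporadicStructure.PermChain.evalWord | exact Unit : Sort _) := by first | (refine @Subtype.val _ (fun g => @Cfsg.Agent.SporadicStructure.PermChain.evalWord = @g) (@Subtype.mk _ _ (@(fun x0 x1 x2 x3 => @List.rec.{1, 0} ℕ @(fun x4 => ℕ → ℕ) @(fun x4 => @x4) @(fun x4 x5 x6 x7 => @Cfsg.Agent.KOad8df86.k2 @x0 (@Option.rec.{1, 0} ℕ @(fun x8 => ℕ) (nat_lit 0) @(fun x8 => @x8) (@Cfsg.Agent.KOad8df86.k6.{0} _ @x1 @x4)) (@x6 @x7)) @x2 @x3)) ?_); rewrite [← Cfsg.Agent.KOad8df86.e6.{0}, ← Cfsg.Agent.KOad8df86.e2];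 funext a0 a1 a2 a3; refine (congrFun (_root_.Cfsg.Agent.KOad8df86.e4 (fun a2 a3 => @Cfsg.Agent.SporadicStructure.PermChain.evalWord a0 a1 a2 a3) ?_ (fun c0 c1 => ?_) a2) a3 :) <;> ((try delta Cfsg.Agent.SporadicStructure.PermChain.evalWord Cfsg.Agent.SporadicStructure.PermChain.evalWord._f); (try generalize @Cfsg.Agent.SporadicStructure.PermChain.look = g0); rfl')) | exact @Cfsg.Agent.SporadicStructure.PermChain.evalWord | exact ()
private theorem _root_.Cfsg.Agent.KOad8df86.e8 : (by first | exact @Cfsg.Agent.SporadicStructure.PermChain.evalWord = @_root_.Cfsg.Agent.KOad8df86.k8 | exact True : Prop) := by first | (delta _root_.Cfsg.Agent.KOad8df86.k8; exact @Subtype.property _ (fun g => @Cfsg.Agent.SporadicStructure.PermChain.evalWord = @g) _) | rfl | trivial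
private noncomputable def _root_.Cfsg.Agent.KOad8df86.k9.{ku0} : type_of% @List.all.{ku0} := @(fun x0 x1 x2 => @List.rec.{(ku0+1), ku0} @x0 @(fun x3 => (@x0 → @Bool) → @Bool) @(fun x3 => @Bool.true) @(fun x3 x4 x5 x6 => @Bool.rec.{1} @(fun x7 => @Bool) @Bool.false (@x5 @x6) (@x6 @x3)) @x1 @x2)
private theorem _root_.Cfsg.Agent.KOad8df86.e9.{ku0} : @List.all.{ku0} = @_root_.Cfsg.Agent.KOad8df86.k9.{ku0} := by delta _root_.Cfsg.Agent.KOad8df86.k9; funext a0 a1 a2; refine (congrFun (_root_.Cfsg.Agent.KOad8df86.e4 (fun a1 a2 => @List.all.{ku0} a0 a1 a2) ?_ (fun c0 c1 => ?_) a1) a2 :) <;> (rfl')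
private noncomputable def _root_.Cfsg.Agent.KOad8df86.k10 : (by first | exact type_of% @Cfsg.Agent.LargeExtra.W2.U43.PermModel.eqW | exact Unit : Sort _) := by first | (refine @Subtype.val _ (fun g => @Cfsg.Agent.LargeExtra.W2.U43.PermModel.eqW = @g) (@Subtype.mk _ _ (@(fun x0 x1 => @Bool.rec.{1} @(fun x2 => @Bool) @Bool.false (@Cfsg.Agent.KOad8df86.k1 @(fun x2 => @Nat.beq (@Cfsg.Agent.KOad8df86.k8 (nat_lit 9) @Cfsg.Agent.LargeExtra.W2.U43.PermModel.tabs @x0 @x2) (@Cfsg.Agent.KOad8df86.k8 (nat_lit 9) @Cfsg.Agent.LargeExtra.W2.U43.PermModel.tabs @x1 @x2)) (nat_lit 280)) (@Bool.rec.{1} @(fun x2 => @Bool) @Bool.false (@Cfsg.Agent.KOad8df86.k9.{0} _ @x1 @(fun x2 => @Nat.ble (@Nat.succ @x2) (nat_lit 21))) (@Cfsg.Agent.KOad8df86.k9.{0} _ @x0 @(fun x2 => @Nat.ble (@Nat.succ @x2) (nat_lit 21)))))) ?_); rewrite [← Cfsg.Agent.KOad8df86.e9.{0}, ← Cfsg.Agent.KOad8df86.e8, ← Cfsg.Agent.KOad8df86.e1]; (try delta Cfsg.Agent.LargeExtra.W2.U43.PermModel.eqW);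 (try generalize @Cfsg.Agent.SporadicStructure.PermChain.allBelow = g0); (try generalize @Cfsg.Agent.SporadicStructure.PermChain.evalWord = g1); (try generalize @Cfsg.Agent.LargeExtra.W2.U43.PermModel.tabs = g2); rfl') | exact @Cfsg.Agent.LargeExtra.W2.U43.PermModel.eqW | exact ()
private theorem _root_.Cfsg.Agent.KOad8df86.e10 : (by first | exact @Cfsg.Agent.LargeExtra.W2.U43.PermModel.eqW = @_root_.Cfsg.Agent.KOad8df86.k10 | exact True : Prop) := by first | (delta _root_.Cfsg.Agent.KOad8df86.k10; exact @Subtype.property _ (fun g => @Cfsg.Agent.LargeExtra.W2.U43.PermModel.eqW = @g) _) | rfl | trivial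
private noncomputable def _root_.Cfsg.Agent.KOad8df86.k11 : (by first | exact type_of% @Cfsg.Agent.LargeExtra.W2.U43.PermModel.relsOk | exact Unit : Sort _) := by first | (refine @Subtype.val _ (fun g => @Cfsg.Agent.LargeExtra.W2.U43.PermModel.relsOk = @g) (@Subtype.mk _ _ (@(fun x0 => @List.rec.{1, 0} (@List.{0} ℕ) @(fun x1 => @Bool) @Bool.true @(fun x1 x2 x3 => @Bool.rec.{1} @(fun x4 => @Bool) @Bool.false @x3 (@Cfsg.Agent.KOad8df86.k10 @x1 [])) @x0)) ?_); rewrite [← Cfsg.Agent.KOad8df86.e10]; funext a0; refine (_root_.Cfsg.Agent.KOad8df86.e4 (fun a0 => @Cfsg.Agent.LargeExtra.W2.U43.PermModel.relsOk a0) ?_ (fun c0 c1 => ?_) a0 :) <;> ((try delta Cfsg.Agent.LargeExtra.W2.U43.PermModel.relsOk Cfsg.Agent.LargeExtra.W2.U43.PermModel.relsOk._f); (try generalize @Cfsg.Agent.LargeExtra.W2.U43.PermModel.eqW = g0); rfl')) | exact @Cfsg.Agent.LargeExtra.W2.U43.PermModel.relsOk | exact ()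
private theorem _root_.Cfsg.Agent.KOad8df86.e11 : (by first | exact @Cfsg.Agent.LargeExtra.W2.U43.PermModel.relsOk = @_root_.Cfsg.Agent.KOad8df86.k11 | exact True : Prop) := by first | (delta _root_.Cfsg.Agent.KOad8df86.k11; exact @Subtype.property _ (fun g => @Cfsg.Agent.LargeExtra.W2.U43.PermModel.relsOk = @g) _) | rfl | trivial

theorem rels_P : ∀ r ∈ CertData.rels, (r.map P).prod = 1 := relsOk_spec (by (first | (rewrite [Cfsg.Agent.KOad8df86.e11]; decide +kernel) | decide +kernel))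

theorem inv_P (n : ℕ) (hn : n < 12) : CertData.C.inv n < 12 ∧ P n * P (CertData.C.inv n) = 1 := by
  interval_cases n

  · exact ⟨by decide, pr_of_eqW (l := [0, 1]) (l' := []) (by decide +kernel)⟩
  · exact ⟨by decide, pr_of_eqW (l := [1, 0]) (l' := []) (by decide +kernel)⟩
  · exact ⟨by decide, pr_of_eqW (l := [2, 2]) (l' := []) (by decide +kernel)⟩
  · exact ⟨by decide, pr_of_eqW (l := [3, 4]) (l' := []) (by decide +kernel)⟩
  · exact ⟨by decide, pr_of_eqW (l := [4, 3]) (l' := []) (by decide +kernel)⟩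
  · exact ⟨by decide, pr_of_eqW (l := [5, 6]) (l' := []) (by decide +kernel)⟩
  · exact ⟨by decide, pr_of_eqW (l := [6, 5]) (l' := []) (by decide +kernel)⟩
  · exact ⟨by decide, pr_of_eqW (l := [7, 7]) (l' := []) (by decide +kernel)⟩
  · exact ⟨by decide, pr_of_eqW (l := [8, 9]) (l' := []) (by decide +kernel)⟩
  · exact ⟨by decide, pr_of_eqW (l := [9, 8]) (l' := []) (by decide +kernel)⟩
  · exact ⟨by decide, pr_of_eqW (l := [10, 11]) (l' := []) (by decide +kernel)⟩
  · exact ⟨by decide, pr_of_eqW (l := [11, 10]) (l' := []) (by decide +kernel)⟩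

open Cfsg.Agent.LargeExtra.W2.CM in
theorem rules_P : Rules true false true (P 2) (P 0) (P 13) (P 15) (P 17) (P 3) (P 19) (P 5) (P 7) where
  zz := pr_of_eqW (l := [2, 2]) (l' := []) (by decide +kernel)
  zi := pr_of_eqW (l := [0, 2]) (l' := [2, 0]) (by decide +kernel)
  zj := pr_of_eqW (l := [13, 2]) (l' := [2, 13]) (by decide +kernel)
  zk := pr_of_eqW (l := [15, 2]) (l' := [2, 15]) (by decide +kernel)
  zl := pr_of_eqW (l := [17, 2]) (l' := [2, 17]) (by decide +kernel)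
  zx := pr_of_eqW (l := [3, 2]) (l' := [2, 3]) (by decide +kernel)
  zw := pr_of_eqW (l := [19, 2]) (l' := [2, 19]) (by decide +kernel)
  zy := pr_of_eqW (l := [5, 2]) (l' := [2, 5]) (by decide +kernel)
  zs := pr_of_eqW (l := [7, 2]) (l' := [2, 7]) (by decide +kernel)
  ii := pr_of_eqW (l := [0, 0]) (l' := [2]) (by decide +kernel)
  jj := pr_of_eqW (l := [13, 13]) (l' := [2]) (by decide +kernel)
  kk := pr_of_eqW (l := [15, 15]) (l' := [2]) (by decide +kernel)
  ll := pr_of_eqW (l := [17, 17]) (l' := [2]) (by decide +kernel)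
  ji := pr_of_eqW (l := [13, 0]) (l' := [2, 0, 13]) (by decide +kernel)
  lk := pr_of_eqW (l := [17, 15]) (l' := [2, 15, 17]) (by decide +kernel)
  ki := pr_of_eqW (l := [15, 0]) (l' := [0, 15]) (by decide +kernel)
  li := pr_of_eqW (l := [17, 0]) (l' := [0, 17]) (by decide +kernel)
  kj := pr_of_eqW (l := [15, 13]) (l' := [13, 15]) (by decide +kernel)
  lj := pr_of_eqW (l := [17, 13]) (l' := [13, 17]) (by decide +kernel)
  xi := pr_of_eqW (l := [3, 0]) (l' := [13, 3]) (by decide +kernel)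
  xj := pr_of_eqW (l := [3, 13]) (l' := [0, 13, 3]) (by decide +kernel)
  xk := pr_of_eqW (l := [3, 15]) (l' := [15, 3]) (by decide +kernel)
  xl := pr_of_eqW (l := [3, 17]) (l' := [17, 3]) (by decide +kernel)
  wi := pr_of_eqW (l := [19, 0]) (l' := [0, 19]) (by decide +kernel)
  wj := pr_of_eqW (l := [19, 13]) (l' := [13, 19]) (by decide +kernel)
  wk := pr_of_eqW (l := [19, 15]) (l' := [17, 19]) (by decide +kernel)
  wl := pr_of_eqW (l := [19, 17]) (l' := [15, 17, 19]) (by decide +kernel)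
  yi := pr_of_eqW (l := [5, 0]) (l' := [2, 13, 5]) (by decide +kernel)
  yj := pr_of_eqW (l := [5, 13]) (l' := [2, 0, 5]) (by decide +kernel)
  yk := pr_of_eqW (l := [5, 15]) (l' := [2, 17, 5]) (by decide +kernel)
  yl := pr_of_eqW (l := [5, 17]) (l' := [2, 15, 5]) (by decide +kernel)
  si := pr_of_eqW (l := [7, 0]) (l' := [15, 7]) (by decide +kernel)
  sj := pr_of_eqW (l := [7, 13]) (l' := [17, 7]) (by decide +kernel)
  sk := pr_of_eqW (l := [7, 15]) (l' := [0, 7]) (by decide +kernel)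
  sl := pr_of_eqW (l := [7, 17]) (l' := [13, 7]) (by decide +kernel)
  wx := pr_of_eqW (l := [19, 3]) (l' := [3, 19]) (by decide +kernel)
  xxx := pr_of_eqW (l := [3, 3, 3]) (l' := []) (by decide +kernel)
  www := pr_of_eqW (l := [19, 19, 19]) (l' := []) (by decide +kernel)
  yx := pr_of_eqW (l := [5, 3]) (l' := [3, 3, 5]) (by decide +kernel)
  yw := pr_of_eqW (l := [5, 19]) (l' := [19, 19, 5]) (by decide +kernel)
  sx := pr_of_eqW (l := [7, 3]) (l' := [19, 7]) (by decide +kernel)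
  sw := pr_of_eqW (l := [7, 19]) (l' := [3, 7]) (by decide +kernel)
  sy := pr_of_eqW (l := [7, 5]) (l' := [2, 5, 7]) (by decide +kernel)
  yy := pr_of_eqW (l := [5, 5]) (l' := [2]) (by decide +kernel)
  ss := pr_of_eqW (l := [7, 7]) (l' := []) (by decide +kernel)

theorem j_P : P 13 = P 3 * (P 0 * P 4) := pr_of_eqW (l := [13]) (l' := [3, 0, 4]) (by decide +kernel)
theorem k_P : P 15 = P 7 * (P 0 * P 7) := pr_of_eqW (l := [15]) (l' := [7, 0, 7]) (by decide +kernel)
theorem l_P : P 17 = P 7 * (P 13 * P 7) := pr_of_eqW (l := [17]) (l' := [7, 13, 7]) (by decide +kernel)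
theorem w_P : P 19 = P 7 * (P 3 * P 7) := pr_of_eqW (l := [19]) (l' := [7, 3, 7]) (by decide +kernel)

def wordA : List ℕ := [10, 3, 1, 4, 10, 8, 3, 10, 1, 3]
def wordB : List ℕ := [7, 0, 11, 7, 3, 7, 1, 4]

theorem word_lt : (∀ s ∈ wordA, s < 12) ∧ (∀ s ∈ wordB, s < 12) := by decide

theorem gen_zero : SporadicStructure.U43Perm.gen 0 = (wordA.map P).prod := by
  apply Equiv.ext
  intro x
  apply Fin.ext
  rw [wordCheck_spec (w := 9) (m := 280) (ts := tabs) (l := wordA) (t := SporadicStructure.U43Perm.tabA)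
    (by decide +kernel) P (fun s hs x => P_spec (by have := word_lt.1 s hs; omega) x) x]
  exact SporadicStructure.U43Perm.gen_spec 0 (Or.inl rfl) x

theorem gen_one : SporadicStructure.U43Perm.gen 1 = (wordB.map P).prod := by
  apply Equiv.ext
  intro x
  apply Fin.ext
  rw [wordCheck_spec (w := 9) (m := 280) (ts := tabs) (l := wordB) (t := SporadicStructure.U43Perm.tabB)
    (by decide +kernel) P (fun s hs x => P_spec (by have := word_lt.2 s hs; omega) x) x]
  exact SporadicStructure.U43Perm.gen_spec 1 (Or.inr rfl) x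

/-- The letters generate at least `U43Perm.K0`. -/
theorem range_le : Subgroup.closure (Set.range SporadicStructure.U43Perm.σ) ≤
    Subgroup.closure (P '' {x | x < 12}) := by
  rw [Subgroup.closure_le]
  have key : ∀ l : List ℕ, (∀ s ∈ l, s < 12) → (l.map P).prod ∈ Subgroup.closure (P '' {x | x < 12}) := by
    intro l hl
    apply Subgroup.list_prod_mem
    intro x hx
    obtain ⟨s, hs, rfl⟩ := List.mem_map.1 hx
    exact Subgroup.subset_closure ⟨s, hl s hs, rfl⟩
  rintro _ ⟨s, rfl⟩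
  fin_cases s
  · show SporadicStructure.U43Perm.gen 0 ∈ _
    rw [gen_zero]; exact key _ word_lt.1
  · show SporadicStructure.U43Perm.gen 1 ∈ _
    rw [gen_one]; exact key _ word_lt.2

end Cfsg.Agent.LargeExtra.W2.U43.PermModel
end

-- part: LargeExtra/W2/U43/Ident
section
/-!
# `⟨C, d, e⟩ ≅ U₄(3)` (helper926, certificate and relations by helper893)

`C = ⟨i, j, k, l, x₁, x₂, y, s⟩` with the rules of the twist `y² = z`, `s² = 1`, `s y s⁻¹ = y z`, `Del d`, the mirror image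
`Del e`, `[x₁, x₁ᵈ] = 1` and `e ρ e⁻¹ = κ_s κ_sz⁻¹` generate a group isomorphic to `PSU(4, 3)`.
-/

set_option autoImplicit false
set_option maxRecDepth 10000
set_option linter.unusedSimpArgs false
set_option linter.unusedVariables false

namespace Cfsg.Agent.LargeExtra.W2.U43.Ident

open Cfsg Cfsg.Agent.LargeExtra.W2.CM Cfsg.Agent.SporadicRecognition.CosetCert
  Cfsg.Agent.SporadicRecognition.CosetCertHyp

/-! ### the order of the group defined by `Rules` -/

section card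

variable {G : Type*} [Group G] {al be ga : Bool} {z i j k l x₁ x₂ y s : G}

/-- The normal forms are a subgroup. -/
noncomputable def nf (R : Rules al be ga z i j k l x₁ x₂ y s) : Subgroup G where
  carrier := Set.range fun t : T => t.ev z i j k l x₁ x₂ y s
  one_mem' := ⟨T.one, ev_one⟩
  mul_mem' := by
    rintro _ _ ⟨t, rfl⟩ ⟨u, rfl⟩
    exact ⟨T.mul al be ga t u, (ev_mul R t u).symm⟩
  inv_mem' := by
    rintro _ ⟨t, rfl⟩
    have hfin : Finite (Set.range fun t : T => t.ev z i j k l x₁ x₂ y s) := Set.finite_range _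
    let f : (Set.range fun t : T => t.ev z i j k l x₁ x₂ y s) → (Set.range fun t : T => t.ev z i j k l x₁ x₂ y s) :=
      fun u => ⟨t.ev z i j k l x₁ x₂ y s * u.1, by
        obtain ⟨_, u, rfl⟩ := u
        exact ⟨T.mul al be ga t u, (ev_mul R t u).symm⟩⟩
    have hf : Function.Injective f := by
      intro a b hab
      exact Subtype.ext (mul_left_cancel (congrArg Subtype.val hab))
    obtain ⟨u, hu⟩ := (Finite.injective_iff_surjective.1 hf) ⟨1, T.one, ev_one⟩
    have h1 : t.ev z i j k l x₁ x₂ y s * u.1 = 1 := congrArg Subtype.val hu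
    rw [inv_eq_of_mul_eq_one_right h1]
    exact u.2

theorem card_nf (R : Rules al be ga z i j k l x₁ x₂ y s) : Finite (nf R) ∧ Nat.card (nf R) ≤ 1152 := by
  have hs : Function.Surjective (fun t : T => (⟨t.ev z i j k l x₁ x₂ y s, t, rfl⟩ : nf R)) := by
    rintro ⟨_, t, rfl⟩
    exact ⟨t, rfl⟩
  exact ⟨Finite.of_surjective _ hs, by rw [← card_T]; exact Nat.card_le_card_of_surjective _ hs⟩

/-- `|⟨i, …, s⟩| ≤ 1152` -/
theorem card_closure_rules (R : Rules al be ga z i j k l x₁ x₂ y s) :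
    Finite (Subgroup.closure ({i, j, k, l, x₁, x₂, y, s} : Set G)) ∧
      Nat.card (Subgroup.closure ({i, j, k, l, x₁, x₂, y, s} : Set G)) ≤ 1152 := by
  have hle : Subgroup.closure ({i, j, k, l, x₁, x₂, y, s} : Set G) ≤ nf R := by
    rw [Subgroup.closure_le]
    rintro c (rfl | rfl | rfl | rfl | rfl | rfl | rfl | rfl)
    · exact ⟨ti, ev_i⟩
    · exact ⟨tj, ev_j⟩
    · exact ⟨tk, ev_k⟩
    · exact ⟨tl, ev_l⟩
    · exact ⟨tx₁, ev_x₁⟩
    · exact ⟨tx₂, ev_x₂⟩
    · exact ⟨ty, ev_y⟩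
    · exact ⟨ts, ev_s⟩
  have h := card_nf R
  have := h.1
  exact ⟨Finite.of_injective _ (Subgroup.inclusion_injective hle),
    (Nat.card_le_card_of_injective _ (Subgroup.inclusion_injective hle)).trans h.2⟩

end card

/-! ### pairs -/

theorem Rules.prod {G P : Type*} [Group G] [Group P] {z i j k l x₁ x₂ y s : G} {z' i' j' k' l' x₁' x₂' y' s' : P}
    (R : Rules true false true z i j k l x₁ x₂ y s) (R' : Rules true false true z' i' j' k' l' x₁' x₂' y' s') :
    Rules true false true (z, z') (i, i') (j, j') (k, k') (l, l') (x₁, x₁') (x₂, x₂') (y, y') (s, s') where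
  zz := Prod.ext R.zz R'.zz
  zi := Prod.ext R.zi R'.zi
  zj := Prod.ext R.zj R'.zj
  zk := Prod.ext R.zk R'.zk
  zl := Prod.ext R.zl R'.zl
  zx := Prod.ext R.zx R'.zx
  zw := Prod.ext R.zw R'.zw
  zy := Prod.ext R.zy R'.zy
  zs := Prod.ext R.zs R'.zs
  ii := Prod.ext R.ii R'.ii
  jj := Prod.ext R.jj R'.jj
  kk := Prod.ext R.kk R'.kk
  ll := Prod.ext R.ll R'.ll
  ji := Prod.ext R.ji R'.ji
  lk := Prod.ext R.lk R'.lk
  ki := Prod.ext R.ki R'.ki
  li := Prod.ext R.li R'.li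
  kj := Prod.ext R.kj R'.kj
  lj := Prod.ext R.lj R'.lj
  xi := Prod.ext R.xi R'.xi
  xj := Prod.ext R.xj R'.xj
  xk := Prod.ext R.xk R'.xk
  xl := Prod.ext R.xl R'.xl
  wi := Prod.ext R.wi R'.wi
  wj := Prod.ext R.wj R'.wj
  wk := Prod.ext R.wk R'.wk
  wl := Prod.ext R.wl R'.wl
  yi := Prod.ext R.yi R'.yi
  yj := Prod.ext R.yj R'.yj
  yk := Prod.ext R.yk R'.yk
  yl := Prod.ext R.yl R'.yl
  si := Prod.ext R.si R'.si
  sj := Prod.ext R.sj R'.sj
  sk := Prod.ext R.sk R'.sk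
  sl := Prod.ext R.sl R'.sl
  wx := Prod.ext R.wx R'.wx
  xxx := Prod.ext R.xxx R'.xxx
  www := Prod.ext R.www R'.www
  yx := Prod.ext R.yx R'.yx
  yw := Prod.ext R.yw R'.yw
  sx := Prod.ext R.sx R'.sx
  sw := Prod.ext R.sw R'.sw
  sy := Prod.ext R.sy R'.sy
  yy := Prod.ext R.yy R'.yy
  ss := Prod.ext R.ss R'.ss

theorem ev_prod {G P : Type*} [Group G] [Group P] (a : ℕ → G) (b : ℕ → P) (w : List ℕ) :
    ev (fun t => (a t, b t)) w = (ev a w, ev b w) := by
  induction w with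
  | nil => rfl
  | cons c w ih => rw [ev_cons, ev_cons, ev_cons, ih]; rfl

/-! ### the relators -/

section rels

variable {G : Type*} [Group G] {z i j k l x₁ x₂ y s d e : G}

/-- the letters of the certificate -/
def letters (i z x y s d e : G) : ℕ → G
  | 0 => i
  | 1 => i⁻¹
  | 2 => z
  | 3 => x
  | 4 => x⁻¹
  | 5 => y
  | 6 => y⁻¹
  | 7 => s
  | 8 => d
  | 9 => d⁻¹
  | 10 => e
  | 11 => e⁻¹
  | _ => 1

macro "unf" : tactic => `(tactic| simp only [ev, List.map_cons, List.map_nil, List.prod_cons, List.prod_nil, letters])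

/-- The relators hold. -/
theorem rels_G (R : Rules true false true z i j k l x₁ x₂ y s) (hd : Del z i j k l x₁ x₂ y s d)
    (he : Del z i j (l * z) (k * z) x₁ x₂⁻¹ y (y * s) e) (j1 : x₁ * (d * x₁ * d⁻¹) = d * x₁ * d⁻¹ * x₁)
    (j2 : e * (x₁ * x₂) * e⁻¹ = d * (x₁ * x₂⁻¹) * d⁻¹ * (d⁻¹ * (x₁ * x₂⁻¹) * d)⁻¹) :
    ∀ r ∈ CertData.rels, ev (letters i z x₁ y s d e) r = 1 := by
  have iz : z⁻¹ = z := inv_eq_of_mul_eq_one_left R.zz
  have ii : i⁻¹ = i * z := by
    rw [inv_eq_iff_mul_eq_one]; coll R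
  have ik : k⁻¹ = k * z := by
    rw [inv_eq_iff_mul_eq_one]; coll R
  have il : l⁻¹ = l * z := by
    rw [inv_eq_iff_mul_eq_one]; coll R
  have ix1 := inv_x₁ R
  have ix2 := inv_x₂ R
  have iy : y⁻¹ = y * z := by
    rw [inv_eq_iff_mul_eq_one]; coll R
  have is : s⁻¹ = s := by
    rw [inv_eq_iff_mul_eq_one]; coll R
  have ss := R.ss
  simp only [pw, cond_false] at ss
  have zz := R.zz
  have yy : y * y = z := R.yy
  have key : ∀ (a b : G) (A A' B : G), a * b = 1 → a * A = A' * a → A' * B = 1 → a * (A * (b * B)) = 1 := by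
    intro a b A A' B hab h1 h2
    calc a * (A * (b * B)) = (a * A) * b * B := by group
      _ = A' * (a * b) * B := by rw [h1]; group
      _ = 1 := by rw [hab, mul_one, h2]
  have r5 : d * (d * (d * 1)) = 1 := by
    have h := hd.d3
    rw [mul_one]
    rw [pow_succ, pow_two, mul_assoc] at h
    exact h
  have r6 : e * (e * (e * 1)) = 1 := by
    have h := he.d3
    rw [mul_one]
    rw [pow_succ, pow_two, mul_assoc] at h
    exact h
  have r8 : d * (z * (d⁻¹ * (s * 1))) = 1 := by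
    calc d * (z * (d⁻¹ * (s * 1))) = (d * z * d⁻¹) * s := by group
      _ = 1 := by rw [hd.dz, ss]
  have r12 : d * (s * (d⁻¹ * (z * (s * 1)))) = 1 := by
    calc d * (s * (d⁻¹ * (z * (s * 1)))) = (d * s * d⁻¹) * z * s := by group
      _ = s * (z * z) * s := by rw [hd.ds]; group
      _ = 1 := by rw [zz, mul_one, ss]
  have r13 : y * (d * (y⁻¹ * (z * (d * 1)))) = 1 := by
    calc y * (d * (y⁻¹ * (z * (d * 1)))) = (y * d * y⁻¹) * z * d := by group
      _ = d⁻¹ * (z * z) * d := by rw [hd.dy]; group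
      _ = 1 := by rw [zz]; group
  have r14 : e * (z * (e⁻¹ * (s * (y⁻¹ * 1)))) = 1 := by
    calc e * (z * (e⁻¹ * (s * (y⁻¹ * 1)))) = (e * z * e⁻¹) * s * y⁻¹ := by group
      _ = y * (s * s) * y⁻¹ := by rw [he.dz]; group
      _ = 1 := by rw [ss]; group
  have r15 : y * (e * (y⁻¹ * (z * (e * 1)))) = 1 := by
    calc y * (e * (y⁻¹ * (z * (e * 1)))) = (y * e * y⁻¹) * z * e := by group
      _ = e⁻¹ * (z * z) * e := by rw [he.dy]; group
      _ = 1 := by rw [zz]; group
  have r21 : e * (y * (s * (e⁻¹ * (z * (s * (y⁻¹ * 1)))))) = 1 := by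
    calc e * (y * (s * (e⁻¹ * (z * (s * (y⁻¹ * 1)))))) = (e * (y * s) * e⁻¹) * z * s * y⁻¹ := by group
      _ = y * s * (z * z) * s * y⁻¹ := by rw [he.ds]; group
      _ = y * (s * s) * y⁻¹ := by rw [zz]; group
      _ = 1 := by rw [ss]; group
  have r27 : x₁ * (d * (x₁ * (d⁻¹ * (x₁⁻¹ * (d * (x₁⁻¹ * (d⁻¹ * 1))))))) = 1 := by
    calc x₁ * (d * (x₁ * (d⁻¹ * (x₁⁻¹ * (d * (x₁⁻¹ * (d⁻¹ * 1)))))))
        = (x₁ * (d * x₁ * d⁻¹)) * (d * x₁ * d⁻¹ * x₁)⁻¹ := by group
      _ = 1 := by rw [j1]; group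
  have hik : i * (s * (i * s)) = i * k := by coll R
  have hjl : x₁ * (i * (x₁⁻¹ * (s * (x₁ * (i * (x₁⁻¹ * s)))))) = j * l := by
    simp only [ix1]; coll R
  have hr : x₁ * (s * (x₁ * s)) = x₁ * x₂ := by coll R
  have hk : x₁ * (s * (x₁⁻¹ * s)) = x₁ * x₂⁻¹ := by
    simp only [ix1, ix2]; coll R
  have hk' : s * (x₁ * (s * x₁⁻¹)) = (x₁ * x₂⁻¹)⁻¹ := by
    rw [mul_inv_rev, inv_inv]; simp only [ix1, ix2]; coll R
  have hilz : i * (s * (x₁ * (i * (x₁⁻¹ * (s * z))))) = i * (l * z) := by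
    simp only [ix1]; coll R
  have hjkz : x₁ * (i * (x₁⁻¹ * (s * (i * (s * z))))) = j * (k * z) := by
    simp only [ix1]; coll R
  have r29 : d * (i * (s * (i * (s * (d⁻¹ * (s * (i⁻¹ * (s * (i⁻¹ * 1))))))))) = 1 := by
    have h := key d d⁻¹ (i * k) (i * k) (s * (i⁻¹ * (s * (i⁻¹ * 1)))) (mul_inv_cancel d) hd.dik
      (by simp only [ii]; coll R)
    rw [← hik] at h
    simpa only [mul_assoc] using h
  have r30 : d * (x₁ * (s * (x₁ * (s * (d⁻¹ * (s * (x₁⁻¹ * (s * (x₁⁻¹ * 1))))))))) = 1 := by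
    have h := key d d⁻¹ (x₁ * x₂) (x₁ * x₂) (s * (x₁⁻¹ * (s * (x₁⁻¹ * 1)))) (mul_inv_cancel d) hd.dr
      (by simp only [ix1]; coll R)
    rw [← hr] at h
    simpa only [mul_assoc] using h
  have r31 : e * (x₁ * (s * (x₁⁻¹ * (s * (e⁻¹ * (s * (x₁ * (s * (x₁⁻¹ * 1))))))))) = 1 := by
    have h := key e e⁻¹ (x₁ * x₂⁻¹) (x₁ * x₂⁻¹) (s * (x₁ * (s * (x₁⁻¹ * 1)))) (mul_inv_cancel e) he.dr
      (by simp only [ix1, ix2]; coll R)
    rw [← hk] at h
    simpa only [mul_assoc] using h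
  have r40 : e * (i * (s * (x₁ * (i * (x₁⁻¹ * (s * (z * (e⁻¹ * (z * (s * (x₁ * (i⁻¹ * (x₁⁻¹ *
      (s * (i⁻¹ * 1))))))))))))))) = 1 := by
    have h := key e e⁻¹ (i * (l * z)) (i * (l * z)) (z * (s * (x₁ * (i⁻¹ * (x₁⁻¹ * (s * (i⁻¹ * 1)))))))
      (mul_inv_cancel e) he.dik (by simp only [ix1, ii]; coll R)
    rw [← hilz] at h
    simpa only [mul_assoc] using h
  have r41 : e * (x₁ * (i * (x₁⁻¹ * (s * (i * (s * (z * (e⁻¹ * (z * (s * (i⁻¹ * (s * (x₁ *
      (i⁻¹ * (x₁⁻¹ * 1))))))))))))))) = 1 := by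
    have h := key e e⁻¹ (j * (k * z)) (j * (k * z)) (z * (s * (i⁻¹ * (s * (x₁ * (i⁻¹ * (x₁⁻¹ * 1)))))))
      (mul_inv_cancel e) he.djl (by simp only [ix1, ii]; coll R)
    rw [← hjkz] at h
    simpa only [mul_assoc] using h
  have r42 : d * (x₁ * (i * (x₁⁻¹ * (s * (x₁ * (i * (x₁⁻¹ * (s * (d⁻¹ * (s * (x₁ * (i⁻¹ * (x₁⁻¹ *
      (s * (x₁ * (i⁻¹ * (x₁⁻¹ * 1))))))))))))))))) = 1 := by
    have h := key d d⁻¹ (j * l) (j * l) (s * (x₁ * (i⁻¹ * (x₁⁻¹ * (s * (x₁ * (i⁻¹ * (x₁⁻¹ * 1))))))))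
      (mul_inv_cancel d) hd.djl (by simp only [ix1, ii]; coll R)
    rw [← hjl] at h
    simpa only [mul_assoc] using h
  have r43 : e * (x₁ * (s * (x₁ * (s * (e⁻¹ * (d⁻¹ * (x₁ * (s * (x₁⁻¹ * (s * (d * (d * (s * (x₁ * (s *
      (x₁⁻¹ * (d⁻¹ * 1))))))))))))))))) = 1 := by
    calc e * (x₁ * (s * (x₁ * (s * (e⁻¹ * (d⁻¹ * (x₁ * (s * (x₁⁻¹ * (s * (d * (d * (s * (x₁ * (s *
      (x₁⁻¹ * (d⁻¹ * 1)))))))))))))))))
        = (e * (x₁ * (s * (x₁ * s))) * e⁻¹) * (d⁻¹ * (x₁ * (s * (x₁⁻¹ * s))) * d) *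
            (d * (s * (x₁ * (s * x₁⁻¹))) * d⁻¹) := by group
      _ = (e * (x₁ * x₂) * e⁻¹) * (d⁻¹ * (x₁ * x₂⁻¹) * d) * (d * (x₁ * x₂⁻¹)⁻¹ * d⁻¹) := by
          rw [hr, hk, hk']
      _ = 1 := by rw [j2]; group
  simp only [CertData.rels, List.forall_mem_cons]
  refine ⟨?_, ?_, ?_, ?_, ?_, ?_, ?_, ?_, ?_, ?_, ?_, ?_, ?_, ?_, ?_, ?_, ?_, ?_, ?_, ?_, ?_, ?_, ?_, ?_, ?_, ?_, ?_, ?_, ?_, ?_, ?_, ?_, ?_, ?_, ?_, ?_, ?_, ?_, ?_, ?_, ?_, ?_, ?_, fun _ h => absurd h (by simp)⟩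
  · unf; try simp only [ix1, ii, iy]
    coll R
  · unf; try simp only [ix1, ii, iy]
    coll R
  · unf; try simp only [ix1, ii, iy]
    coll R
  · unf; try simp only [ix1, ii, iy]
    coll R
  · unf; exact r5
  · unf; exact r6
  · unf; try simp only [ix1, ii, iy]
    coll R
  · unf; exact r8
  · unf; try simp only [ix1, ii, iy]
    coll R
  · unf; try simp only [ix1, ii, iy]
    coll R
  · unf; try simp only [ix1, ii, iy]
    coll R
  · unf; exact r12
  · unf; exact r13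
  · unf; exact r14
  · unf; exact r15
  · unf; try simp only [ix1, ii, iy]
    coll R
  · unf; try simp only [ix1, ii, iy]
    coll R
  · unf; try simp only [ix1, ii, iy]
    coll R
  · unf; try simp only [ix1, ii, iy]
    coll R
  · unf; try simp only [ix1, ii, iy]
    coll R
  · unf; exact r21
  · unf; try simp only [ix1, ii, iy]
    coll R
  · unf; try simp only [ix1, ii, iy]
    coll R
  · unf; try simp only [ix1, ii, iy]
    coll R
  · unf; try simp only [ix1, ii, iy]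
    coll R
  · unf; try simp only [ix1, ii, iy]
    coll R
  · unf; exact r27
  · unf; try simp only [ix1, ii, iy]
    coll R
  · unf; exact r29
  · unf; exact r30
  · unf; exact r31
  · unf; try simp only [ix1, ii, iy]
    coll R
  · unf; try simp only [ix1, ii, iy]
    coll R
  · unf; try simp only [ix1, ii, iy]
    coll R
  · unf; try simp only [ix1, ii, iy]
    coll R
  · unf; try simp only [ix1, ii, iy]
    coll R
  · unf; try simp only [ix1, ii, iy]
    coll R
  · unf; try simp only [ix1, ii, iy]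
    coll R
  · unf; try simp only [ix1, ii, iy]
    coll R
  · unf; exact r40
  · unf; exact r41
  · unf; exact r42
  · unf; exact r43

theorem letters_inv (x : ℕ) (hs : s * s = 1) (hz : z * z = 1) (hx : x < 12) :
    letters i z x₁ y s d e x * letters i z x₁ y s d e (CertData.C.inv x) = 1 := by
  interval_cases x
  · exact mul_inv_cancel i
  · exact inv_mul_cancel i
  · exact hz
  · exact mul_inv_cancel x₁
  · exact inv_mul_cancel x₁
  · exact mul_inv_cancel y
  · exact inv_mul_cancel y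
  · exact hs
  · exact mul_inv_cancel d
  · exact inv_mul_cancel d
  · exact mul_inv_cancel e
  · exact inv_mul_cancel e

end rels

/-! ### the identification -/

open Cfsg.Agent.SporadicStructure.FieldNine

theorem card_psu : Nat.card (Cfsg.PSU 4 K9 3) = 3265920 := by
  have h := Cfsg.Agent.S0280.result (F := K9) (q := 3) K9.card_K9' 4 (by norm_num)
  have h1 : Nat.gcd 4 (3 + 1) = 4 := by decide
  have h2 : 3 ^ (4 * (4 - 1) / 2) * ∏ i ∈ Finset.range 4,
      (if Even i then 3 ^ (i + 1) + 1 else 3 ^ (i + 1) - 1) = 52254720 := by decide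
  rw [h1, h2] at h
  omega

/-- the permutation group -/
def M : Subgroup (Equiv.Perm (Fin 280)) := Subgroup.closure (Set.range SporadicStructure.U43Perm.σ)

theorem psu_iso : Nonempty (Cfsg.PSU 4 K9 3 ≃* M) :=
  SporadicStructure.PsuMatch.psu_iso_closure_of_match K9.card_K9' (by norm_num)
    SporadicStructure.U43Herm.P SporadicStructure.U43Herm.P_nonprop SporadicStructure.U43Herm.M
    SporadicStructure.U43Perm.σ SporadicStructure.U43Herm.act
    (card_psu.le.trans SporadicStructure.U43Perm.card_ge)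

theorem simple_M : IsSimpleGroup M := by
  obtain ⟨e⟩ := psu_iso
  have hs : IsSimpleGroup (Cfsg.PSU 4 K9 3) := S0283.result K9.card_K9' 4 (by norm_num) (by norm_num)
  exact (MulEquiv.isSimpleGroup_congr e).mp hs

variable {G : Type*} [Group G] {z i j k l x₁ x₂ y s d e : G}

/-- the order of the group generated by the pairs -/
theorem card_pairs (R : Rules true false true z i j k l x₁ x₂ y s) (hd : Del z i j k l x₁ x₂ y s d)
    (he : Del z i j (l * z) (k * z) x₁ x₂⁻¹ y (y * s) e) (j1 : x₁ * (d * x₁ * d⁻¹) = d * x₁ * d⁻¹ * x₁)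
    (j2 : e * (x₁ * x₂) * e⁻¹ = d * (x₁ * x₂⁻¹) * d⁻¹ * (d⁻¹ * (x₁ * x₂⁻¹) * d)⁻¹) :
    Finite (Subgroup.closure ((fun t => (letters i z x₁ y s d e t, PermModel.P t)) '' {x | x < 12})) ∧
      Nat.card (Subgroup.closure ((fun t => (letters i z x₁ y s d e t, PermModel.P t)) '' {x | x < 12}))
        ≤ 3265920 := by
  have R2 := Rules.prod R PermModel.rules_P
  obtain ⟨hf, hc⟩ := card_closure_rules R2
  set H : Subgroup (G × Equiv.Perm (Fin 280)) := Subgroup.closure
    {(i, PermModel.P 0), (j, PermModel.P 13), (k, PermModel.P 15), (l, PermModel.P 17), (x₁, PermModel.P 3),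
      (x₂, PermModel.P 19), (y, PermModel.P 5), (s, PermModel.P 7)} with hH
  set g : ℕ → G × Equiv.Perm (Fin 280) := fun t => (letters i z x₁ y s d e t, PermModel.P t) with hg
  have ss := R.ss
  simp only [pw, cond_false] at ss
  have m0 : (i, PermModel.P 0) ∈ H := Subgroup.subset_closure (by simp only [_root_.Set.mem_insert_iff, _root_.Prod.mk.injEq, _root_.Set.mem_singleton_iff, _root_.true_or])
  have hyp : Hyp CertData.C H g := by
    apply hyp_of_checks H g CertData.C CertData.rels CertData.subw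
    · exact Prod.ext rfl PermModel.P12
    · intro x hx
      exact ⟨(PermModel.inv_P x hx).1, Prod.ext (letters_inv x ss R.zz hx) (PermModel.inv_P x hx).2⟩
    · intro r hr
      rw [hg, ev_prod]
      exact Prod.ext (rels_G R hd he j1 j2 r hr) (PermModel.rels_P r hr)
    · have h1 : ∀ a : ℕ, g a ∈ H → ev g [a] ∈ H := by
        intro a ha
        rw [ev_cons, ev_nil, mul_one]
        exact ha
      simp only [CertData.subw, List.forall_mem_cons]
      refine ⟨h1 _ m0, h1 _ (Subgroup.subset_closure (by simp only [hg, letters, _root_.Set.mem_insert_iff, _root_.Prod.mk.injEq, _root_.Set.mem_singleton_iff, _root_.true_or, _root_.or_true])),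
        h1 _ (Subgroup.subset_closure (by simp only [hg, letters, _root_.Set.mem_insert_iff, _root_.Prod.mk.injEq, _root_.Set.mem_singleton_iff, _root_.true_or, _root_.or_true])),
        h1 _ (Subgroup.subset_closure (by simp only [hg, letters, _root_.Set.mem_insert_iff, _root_.Prod.mk.injEq, _root_.Set.mem_singleton_iff, _root_.or_true])), h1 _ ?_, fun _ h => absurd h (by simp)⟩
      have h2 : g 2 = (i, PermModel.P 0) * (i, PermModel.P 0) :=
        Prod.ext R.ii.symm PermModel.rules_P.ii.symm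
      rw [h2]
      exact mul_mem m0 m0
    · exact (Cfsg.Agent.SporadicRecognition.HypFast.check_fast (by decide +kernel))
  have h3 := card_closure_le CertData.C H g hyp CertAll.part
  exact ⟨h3.1, h3.2.trans ((Nat.mul_le_mul_left 2835 hc).trans (by norm_num))⟩

/-- the two sets of generators -/
theorem closure_letters (R : Rules true false true z i j k l x₁ x₂ y s) :
    Subgroup.closure (letters i z x₁ y s d e '' {x | x < 12}) =
      Subgroup.closure {i, j, k, l, x₁, x₂, y, s, d, e} := by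
  apply le_antisymm
  · rw [Subgroup.closure_le]
    have mi : i ∈ Subgroup.closure ({i, j, k, l, x₁, x₂, y, s, d, e} : Set G) :=
      Subgroup.subset_closure (by simp only [_root_.Set.mem_insert_iff, _root_.Set.mem_singleton_iff, _root_.true_or])
    rintro _ ⟨t, ht, rfl⟩
    have ht' : t < 12 := ht
    interval_cases t
    · exact mi
    · exact inv_mem mi
    · show z ∈ _
      rw [← R.ii]; exact mul_mem mi mi
    · exact Subgroup.subset_closure (by simp only [letters, _root_.Set.mem_insert_iff, _root_.Set.mem_singleton_iff, _root_.true_or, _root_.or_true])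
    · exact inv_mem (Subgroup.subset_closure (by simp only [_root_.Set.mem_insert_iff, _root_.Set.mem_singleton_iff, _root_.true_or, _root_.or_true]))
    · exact Subgroup.subset_closure (by simp only [letters, _root_.Set.mem_insert_iff, _root_.Set.mem_singleton_iff, _root_.true_or, _root_.or_true])
    · exact inv_mem (Subgroup.subset_closure (by simp only [_root_.Set.mem_insert_iff, _root_.Set.mem_singleton_iff, _root_.true_or, _root_.or_true]))
    · exact Subgroup.subset_closure (by simp only [letters, _root_.Set.mem_insert_iff, _root_.Set.mem_singleton_iff, _root_.true_or, _root_.or_true])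
    · exact Subgroup.subset_closure (by simp only [letters, _root_.Set.mem_insert_iff, _root_.Set.mem_singleton_iff, _root_.true_or, _root_.or_true])
    · exact inv_mem (Subgroup.subset_closure (by simp only [_root_.Set.mem_insert_iff, _root_.Set.mem_singleton_iff, _root_.true_or, _root_.or_true]))
    · exact Subgroup.subset_closure (by simp only [letters, _root_.Set.mem_insert_iff, _root_.Set.mem_singleton_iff, _root_.or_true])
    · exact inv_mem (Subgroup.subset_closure (by simp only [_root_.Set.mem_insert_iff, _root_.Set.mem_singleton_iff, _root_.or_true]))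
  · rw [Subgroup.closure_le]
    set K := Subgroup.closure (letters i z x₁ y s d e '' {x | x < 12}) with hK
    have m : ∀ n, n < 12 → letters i z x₁ y s d e n ∈ K := fun n hn => Subgroup.subset_closure ⟨n, hn, rfl⟩
    have mi : i ∈ K := m 0 (by norm_num)
    have mx : x₁ ∈ K := m 3 (by norm_num)
    have my : y ∈ K := m 5 (by norm_num)
    have ms : s ∈ K := m 7 (by norm_num)
    have md : d ∈ K := m 8 (by norm_num)
    have me : e ∈ K := m 10 (by norm_num)
    have mj : j ∈ K := by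
      have : j = x₁ * i * x₁⁻¹ := by rw [R.xi]; group
      rw [this]; exact mul_mem (mul_mem mx mi) (inv_mem mx)
    have mk : k ∈ K := by
      have : k = s * i * s⁻¹ := by rw [R.si]; group
      rw [this]; exact mul_mem (mul_mem ms mi) (inv_mem ms)
    have ml : l ∈ K := by
      have : l = s * j * s⁻¹ := by rw [R.sj]; group
      rw [this]; exact mul_mem (mul_mem ms mj) (inv_mem ms)
    have mw : x₂ ∈ K := by
      have : x₂ = s * x₁ * s⁻¹ := by rw [R.sx]; group
      rw [this]; exact mul_mem (mul_mem ms mx) (inv_mem ms)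
    rintro c (rfl | rfl | rfl | rfl | rfl | rfl | rfl | rfl | rfl | rfl)
    · exact mi
    · exact mj
    · exact mk
    · exact ml
    · exact mx
    · exact mw
    · exact my
    · exact ms
    · exact md
    · exact me

/-- **Identification.** -/
theorem ident_aux (R : Rules true false true z i j k l x₁ x₂ y s) (hz : z ≠ 1) (hd : Del z i j k l x₁ x₂ y s d)
    (he : Del z i j (l * z) (k * z) x₁ x₂⁻¹ y (y * s) e) (j1 : x₁ * (d * x₁ * d⁻¹) = d * x₁ * d⁻¹ * x₁)
    (j2 : e * (x₁ * x₂) * e⁻¹ = d * (x₁ * x₂⁻¹) * d⁻¹ * (d⁻¹ * (x₁ * x₂⁻¹) * d)⁻¹) :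
    Nonempty (↥(Subgroup.closure ({i, j, k, l, x₁, x₂, y, s, d, e} : Set G)) ≃* Cfsg.PSU 4 K9 3) := by
  obtain ⟨hf, hc⟩ := card_pairs R hd he j1 j2
  set L := Subgroup.closure ((fun t => (letters i z x₁ y s d e t, PermModel.P t)) '' {x | x < 12}) with hL
  have h1 : L.map (MonoidHom.fst G (Equiv.Perm (Fin 280))) =
      Subgroup.closure ({i, j, k, l, x₁, x₂, y, s, d, e} : Set G) := by
    rw [hL, Graph.map_fst_closure (letters i z x₁ y s d e) PermModel.P, closure_letters R]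
  have h2 : M ≤ L.map (MonoidHom.snd G (Equiv.Perm (Fin 280))) := by
    rw [hL, Graph.map_snd_closure (letters i z x₁ y s d e) PermModel.P]
    exact PermModel.range_le
  have h3 : L.map (MonoidHom.fst G (Equiv.Perm (Fin 280))) ≠ ⊥ := by
    rw [h1]
    intro h
    apply hz
    have hi : i ∈ Subgroup.closure ({i, j, k, l, x₁, x₂, y, s, d, e} : Set G) :=
      Subgroup.subset_closure (by simp only [_root_.Set.mem_insert_iff, _root_.Set.mem_singleton_iff, _root_.true_or])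
    rw [h, Subgroup.mem_bot] at hi
    rw [← R.ii, hi, mul_one]
  obtain ⟨_, ⟨f⟩⟩ := Graph.iso_of_graph L M simple_M h2 (hc.trans SporadicStructure.U43Perm.card_ge) h3
  obtain ⟨f'⟩ := psu_iso
  rw [h1] at f
  exact ⟨f.trans f'.symm⟩

/-- **Identification of `U₄(3)`** over any field with nine elements. -/
theorem ident (R : Rules true false true z i j k l x₁ x₂ y s) (hz : z ≠ 1) (hd : Del z i j k l x₁ x₂ y s d)
    (he : Del z i j (l * z) (k * z) x₁ x₂⁻¹ y (y * s) e) (j1 : x₁ * (d * x₁ * d⁻¹) = d * x₁ * d⁻¹ * x₁)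
    (j2 : e * (x₁ * x₂) * e⁻¹ = d * (x₁ * x₂⁻¹) * d⁻¹ * (d⁻¹ * (x₁ * x₂⁻¹) * d)⁻¹)
    (F : Type*) [Field F] [Fintype F] (hF : Fintype.card F = 9) :
    Nonempty (↥(Subgroup.closure ({i, j, k, l, x₁, x₂, y, s, d, e} : Set G)) ≃* Cfsg.PSU 4 F 3) := by
  obtain ⟨f⟩ := ident_aux R hz hd he j1 j2
  obtain ⟨f'⟩ := SporadicStructure.PsuMatch.psu_iso_of_card (F := F) (K := K9)
    (hF.trans K9.card_K9.symm) 4 3
  exact ⟨f.trans f'.symm⟩

/-- the order and simplicity of `⟨C, d, e⟩` -/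
theorem card_simple (R : Rules true false true z i j k l x₁ x₂ y s) (hz : z ≠ 1)
    (hd : Del z i j k l x₁ x₂ y s d)
    (he : Del z i j (l * z) (k * z) x₁ x₂⁻¹ y (y * s) e) (j1 : x₁ * (d * x₁ * d⁻¹) = d * x₁ * d⁻¹ * x₁)
    (j2 : e * (x₁ * x₂) * e⁻¹ = d * (x₁ * x₂⁻¹) * d⁻¹ * (d⁻¹ * (x₁ * x₂⁻¹) * d)⁻¹) :
    Nat.card ↥(Subgroup.closure ({i, j, k, l, x₁, x₂, y, s, d, e} : Set G)) = 3265920 ∧
      IsSimpleGroup ↥(Subgroup.closure ({i, j, k, l, x₁, x₂, y, s, d, e} : Set G)) := by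
  obtain ⟨f⟩ := ident_aux R hz hd he j1 j2
  have hs : IsSimpleGroup (Cfsg.PSU 4 K9 3) := S0283.result K9.card_K9' 4 (by norm_num) (by norm_num)
  exact ⟨by rw [Nat.card_congr f.toEquiv, card_psu], (MulEquiv.isSimpleGroup_congr f).mpr hs⟩

end Cfsg.Agent.LargeExtra.W2.U43.Ident
end

private theorem dce_b09d964a4169 : _root_.True := by
  try have : _root_.True := by simp only [_root_.Cfsg.Agent.LargeExtra.W2.U43.Ident.letters.eq_8]
  try have : _root_.True := by simp only [_root_.Cfsg.Agent.LargeExtra.W2.U43.Ident.letters.eq_4]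
  try have : _root_.True := by simp only [_root_.Cfsg.Agent.LargeExtra.W2.U43.Ident.letters.eq_6]
  try have : _root_.True := by simp only [_root_.Cfsg.Agent.LargeExtra.W2.U43.PermModel.pr.eq_2]
  try have : _root_.True := by simp only [_root_.Cfsg.Agent.LargeExtra.W2.U43.Ident.letters.eq_12]
  try have : _root_.True := by simp only [_root_.Cfsg.Agent.LargeExtra.W2.U43.Ident.letters.eq_5]
  try have : _root_.True := by simp only [_root_.Cfsg.Agent.LargeExtra.W2.U43.PermModel.pr.eq_3]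
  try have : _root_.True := by simp only [_root_.Cfsg.Agent.LargeExtra.W2.U43.Ident.letters.eq_2]
  try have : _root_.True := by simp only [_root_.Cfsg.Agent.LargeExtra.W2.U43.PermModel.pr.eq_def]
  try have : _root_.True := by simp only [_root_.Cfsg.Agent.LargeExtra.W2.U43.Ident.letters.eq_3]
  try have : _root_.True := by simp only [_root_.Cfsg.Agent.LargeExtra.W2.U43.CertData.subw.eq_1]
  try have : _root_.True := by simp only [_root_.Cfsg.Agent.LargeExtra.W2.U43.Ident.letters.eq_10]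
  try have : _root_.True := by simp only [_root_.Cfsg.Agent.LargeExtra.W2.U43.Ident.letters.eq_7]
  try have : _root_.True := by simp only [_root_.Cfsg.Agent.LargeExtra.W2.U43.Ident.letters.eq_9]
  try have : _root_.True := by simp only [_root_.Cfsg.Agent.LargeExtra.W2.U43.CertData.rels.eq_1]
  try have : _root_.True := by simp only [_root_.Cfsg.Agent.LargeExtra.W2.U43.PermModel.P.eq_1]
  try have : _root_.True := by simp only [_root_.Cfsg.Agent.LargeExtra.W2.U43.Ident.letters.eq_13]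
  try have : _root_.True := by simp only [_root_.Cfsg.Agent.LargeExtra.W2.U43.PermModel.pr.eq_1]
  try have : _root_.True := by simp only [_root_.Cfsg.Agent.LargeExtra.W2.U43.Ident.letters.eq_11]
  try have : _root_.True := by simp only [_root_.Cfsg.Agent.LargeExtra.W2.U43.Ident.letters.eq_1]
  exact _root_.True.intro
end

-- part: LargeExtra/W2/U43/ThreeLocJ
section
prune_inst 0x10000000001000001800000000000000000000000000000000000000000040204400010020000000000c1028000000001000000020000020000000000400000000000000000000000000000002000000000000000000000000000000000000000000000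
set_option linter.all false
open scoped Cfsg.Agent.FastGrp

-- part: LargeExtra/W2/U43/ThreeLoc
section
/-!
# `U₄(3)` (S1759): the 3-local relations (helper865)

* `j1` : `x₁` commutes with `d x₁ d⁻¹`; `κ = x₁ x₂⁻¹` commutes with `d κ d⁻¹`.
* `j2` : `e ρ e⁻¹ = κ_s κ_{sz}⁻¹` for `e` or for `z e z⁻¹`, `κ_s = d κ d⁻¹`, `κ_{sz} = d⁻¹ κ d`.
-/

set_option autoImplicit false
set_option linter.unusedSimpArgs false
set_option linter.unusedVariables false

namespace Cfsg.Agent.LargeExtra.W2.U43.ThreeLoc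

open Cfsg.Agent.LargeExtra.W2.CM Cfsg.Agent.LargeExtra.W2.U43 Cfsg.Agent.LargeExtra.W2.ThreeLocal
open Cfsg.Agent.LargeExtra.W2.U43.ExistsD (mu tr tik tjl anyL anyL_mem anyL_spec)

/-! ### decidable facts -/

/-- `κ` -/
def tκ : T := mu tx₁ (mu tx₂ tx₂)

private theorem beq_sw15 : T.beq = fun t u => C3.eqb t.m u.m && (C3.eqb t.n u.n && ((t.w.a == u.w.a) && ((t.w.c == u.w.c) &&
    ((t.w.b == u.w.b) && ((t.w.d == u.w.d) && ((t.e == u.e) && ((t.f == u.f) && (t.w.s == u.w.s)))))))) := by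
  delta T.beq Qt.beq
  funext t u
  ac_rfl

private theorem tr_eq15 : tr = ⟨⟨false, false, false, false, false⟩, C3.p, C3.p, false, false⟩ := rfl

private theorem tk_eq15 : tκ = ⟨⟨false, false, false, false, false⟩, C3.p, C3.q, false, false⟩ := rfl

private noncomputable def _root_.Cfsg.Agent.LsF.f005240_0 : {f // @Cfsg.Agent.LargeExtra.W2.CM.allB = f} := ⟨_, by first | (delta Cfsg.Agent.LargeExtra.W2.CM.allB; rewrite [Cfsg.Agent.LsF.and_eq]; exact rfl) | exact rfl⟩
private noncomputable def _root_.Cfsg.Agent.LsF.f005240_1 : {f // @Cfsg.Agent.LargeExtra.W2.CM.all3 = f} := ⟨_, by first | (delta Cfsg.Agent.LargeExtra.W2.CM.all3; rewrite [Cfsg.Agent.LsF.and_eq]; exact rfl) | exact rfl⟩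
private noncomputable def _root_.Cfsg.Agent.LsF.f005240_2 : {f // @Cfsg.Agent.LargeExtra.W2.CM.allT = f} := ⟨_, by first | (delta Cfsg.Agent.LargeExtra.W2.CM.allT; rewrite [Cfsg.Agent.LsF.f005240_0.2, Cfsg.Agent.LsF.f005240_1.2]; exact rfl) | exact rfl⟩
private noncomputable def _root_.Cfsg.Agent.LsF.f005240_3 : {f // @Cfsg.Agent.LargeExtra.W2.CM.Qt.sg = f} := ⟨_, by first | (delta Cfsg.Agent.LargeExtra.W2.CM.Qt.sg; rewrite [Cfsg.Agent.LsF.bxor_eq]; exact rfl) | exact rfl⟩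
private noncomputable def _root_.Cfsg.Agent.LsF.f005240_4 : {f // @Cfsg.Agent.LargeExtra.W2.CM.Qt.mul = f} := ⟨_, by first | (delta Cfsg.Agent.LargeExtra.W2.CM.Qt.mul; rewrite [Cfsg.Agent.LsF.and_eq, Cfsg.Agent.LsF.bxor_eq]; exact rfl) | exact rfl⟩
private noncomputable def _root_.Cfsg.Agent.LsF.f005240_5 : {f // @Cfsg.Agent.LargeExtra.W2.CM.Qt.x1 = f} := ⟨_, by first | (delta Cfsg.Agent.LargeExtra.W2.CM.Qt.x1; rewrite [Cfsg.Agent.LsF.bxor_eq]; exact rfl) | exact rfl⟩
private noncomputable def _root_.Cfsg.Agent.LsF.f005240_6 : {f // @Cfsg.Agent.LargeExtra.W2.CM.Qt.X1 = f} := ⟨_, by first | (delta Cfsg.Agent.LargeExtra.W2.CM.Qt.X1; rewrite [Cfsg.Agent.LsF.f005240_5.2]; (try delta Cfsg.Agent.LargeExtra.W2.CM.C3.neg.match_1); (try delta Cfsg.Agent.LargeExtra.W2.CM.C3.casesOn); exact rfl) | exact rfl⟩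
private noncomputable def _root_.Cfsg.Agent.LsF.f005240_7 : {f // @Cfsg.Agent.LargeExtra.W2.CM.Qt.x2 = f} := ⟨_, by first | (delta Cfsg.Agent.LargeExtra.W2.CM.Qt.x2; rewrite [Cfsg.Agent.LsF.bxor_eq]; exact rfl) | exact rfl⟩
private noncomputable def _root_.Cfsg.Agent.LsF.f005240_8 : {f // @Cfsg.Agent.LargeExtra.W2.CM.Qt.X2 = f} := ⟨_, by first | (delta Cfsg.Agent.LargeExtra.W2.CM.Qt.X2; rewrite [Cfsg.Agent.LsF.f005240_7.2]; (try delta Cfsg.Agent.LargeExtra.W2.CM.C3.neg.match_1); (try delta Cfsg.Agent.LargeExtra.W2.CM.C3.casesOn); exact rfl) | exact rfl⟩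
private noncomputable def _root_.Cfsg.Agent.LsF.f005240_9 : {f // @Cfsg.Agent.LargeExtra.W2.CM.Qt.y = f} := ⟨_, by first | (delta Cfsg.Agent.LargeExtra.W2.CM.Qt.y; rewrite [Cfsg.Agent.LsF.or_eq, Cfsg.Agent.LsF.bxor_eq]; exact rfl) | exact rfl⟩
private noncomputable def _root_.Cfsg.Agent.LsF.f005240_10 : {f // @Cfsg.Agent.LargeExtra.W2.CM.Qt.Y = f} := ⟨_, by first | (delta Cfsg.Agent.LargeExtra.W2.CM.Qt.Y; rewrite [Cfsg.Agent.LsF.f005240_9.2, Cfsg.Agent.LsF.cond_eq]; exact rfl) | exact rfl⟩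
private noncomputable def _root_.Cfsg.Agent.LsF.f005240_11 : {f // @Cfsg.Agent.LargeExtra.W2.CM.Qt.S = f} := ⟨_, by first | (delta Cfsg.Agent.LargeExtra.W2.CM.Qt.S; rewrite [Cfsg.Agent.LsF.cond_eq]; exact rfl) | exact rfl⟩
private noncomputable def _root_.Cfsg.Agent.LsF.f005240_12 : {f // @Cfsg.Agent.LargeExtra.W2.CM.ng = f} := ⟨_, by first | (delta Cfsg.Agent.LargeExtra.W2.CM.ng; rewrite [Cfsg.Agent.LsF.cond_eq]; exact rfl) | exact rfl⟩
private noncomputable def _root_.Cfsg.Agent.LsF.f005240_13 : {f // @Cfsg.Agent.LargeExtra.W2.CM.T.mul = f} := ⟨_, by first | (delta Cfsg.Agent.LargeExtra.W2.CM.T.mul; rewrite [Cfsg.Agent.LsF.f005240_3.2, Cfsg.Agent.LsF.f005240_4.2, Cfsg.Agent.LsF.f005240_6.2, Cfsg.Agent.LsF.f005240_8.2, Cfsg.Agent.LsF.f005240_10.2, Cfsg.Agent.LsF.f005240_11.2, Cfsg.Agent.LsF.f005240_12.2, Cfsg.Agent.LsF.and_eq, Cfsg.Agent.LsF.cond_eq, Cfsg.Agent.LsF.bxor_eq]; exact rfl) | exact rfl⟩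
private noncomputable def _root_.Cfsg.Agent.LsF.f005240_14 : {f // @Cfsg.Agent.LargeExtra.W2.U43.ExistsD.mu = f} := ⟨_, by first | (delta Cfsg.Agent.LargeExtra.W2.U43.ExistsD.mu; rewrite [Cfsg.Agent.LsF.f005240_13.2]; exact rfl) | exact rfl⟩
/-- `C_C(ρ) = ⟨x₁, x₂, z, s⟩` -/
theorem factA : allT (fun t => !(T.beq (mu t tr) (mu tr t)) ||
    (!t.w.a && (!t.w.b && (!t.w.c && (!t.w.d && !t.e))))) = true := by rewrite [beq_sw15, tr_eq15]; ((try (rewrite [Cfsg.Agent.LsF.f005240_2.2, Cfsg.Agent.LsF.f005240_14.2, Cfsg.Agent.LsF.bbeq_pat, Cfsg.Agent.LsF.and_eq, Cfsg.Agent.LsF.or_eq, Cfsg.Agent.LsF.not_eq])); decide +kernel)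

/-- `x₁^m x₂^n` -/
def pp (m n : C3) : T := ⟨⟨false, false, false, false, false⟩, m, n, false, false⟩

def P9 : List T := [pp C3.o C3.o, pp C3.o C3.p, pp C3.o C3.q, pp C3.p C3.o, pp C3.p C3.p, pp C3.p C3.q,
  pp C3.q C3.o, pp C3.q C3.p, pp C3.q C3.q]

theorem mem_P9 (m n : C3) : pp m n ∈ P9 := by
  cases m <;> cases n <;> simp [P9]

private noncomputable def _root_.Cfsg.Agent.LsF.f005240_15 : {f // @Cfsg.Agent.LargeExtra.W2.U43.ExistsD.anyL = f} := ⟨_, by first | (delta Cfsg.Agent.LargeExtra.W2.U43.ExistsD.anyL List.brecOn List.brecOn.go Cfsg.Agent.LargeExtra.W2.U43.ExistsD.anyL._f; rewrite [Cfsg.Agent.LsF.or_eq]; (try delta Cfsg.Agent.LargeExtra.W2.U43.ExistsD.anyL.match_1); (try delta List.casesOn); first | dsimp -zeta only | exact rfl) | exact rfl⟩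
/-- the normaliser of `⟨x₁, x₂⟩` normalises `⟨ρ⟩` -/
theorem factN : allT (fun t => !(anyL P9 (fun p => T.beq (mu t tr) (mu p t))) ||
    (!(anyL P9 (fun p => T.beq (mu t tκ) (mu p t))) ||
      (T.beq (mu t tr) (mu tr t) || T.beq (mu t tr) (mu (mu tr tr) t)))) = true := by
  rewrite [beq_sw15, tr_eq15, tk_eq15]; ((try (rewrite [Cfsg.Agent.LsF.f005240_2.2, Cfsg.Agent.LsF.f005240_15.2, Cfsg.Agent.LsF.f005240_14.2, Cfsg.Agent.LsF.bbeq_pat, Cfsg.Agent.LsF.and_eq, Cfsg.Agent.LsF.or_eq, Cfsg.Agent.LsF.not_eq])); decide +kernel)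

/-- elements of `Q` modulo `z` -/
def Q16 : List T := [T.one, ti, tj, mu ti tj, tk, mu ti tk, mu tj tk, mu ti (mu tj tk), tl, mu ti tl, mu tj tl,
  mu ti (mu tj tl), mu tk tl, mu ti (mu tk tl), mu tj (mu tk tl), mu ti (mu tj (mu tk tl))]

private noncomputable def _root_.Cfsg.Agent.LsF.f005240_16 : {f // @Cfsg.Agent.LargeExtra.W2.U43.ExistsD.tik = f} := ⟨_, by first | (delta Cfsg.Agent.LargeExtra.W2.U43.ExistsD.tik; rewrite [Cfsg.Agent.LsF.f005240_14.2]; exact rfl) | exact rfl⟩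
private noncomputable def _root_.Cfsg.Agent.LsF.f005240_17 : {f // @Cfsg.Agent.LargeExtra.W2.U43.ThreeLoc.Q16 = f} := ⟨_, by first | (delta Cfsg.Agent.LargeExtra.W2.U43.ThreeLoc.Q16; rewrite [Cfsg.Agent.LsF.f005240_14.2]; exact rfl) | exact rfl⟩
/-- elements of order three moving `s` to `z i k s` -/
theorem factC : allT (fun t => !(T.beq (mu t (mu t t)) T.one) || (!(T.beq (mu t ts) (mu (mu tz (mu tik ts)) t)) ||
    anyL Q16 (fun w => T.beq (mu t w) (mu w tr) || T.beq (mu t w) (mu w (mu tr tr))))) = true := by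
  rewrite [beq_sw15, tr_eq15]; ((try (rewrite [Cfsg.Agent.LsF.f005240_2.2, Cfsg.Agent.LsF.f005240_14.2, Cfsg.Agent.LsF.f005240_16.2, Cfsg.Agent.LsF.f005240_15.2, Cfsg.Agent.LsF.f005240_17.2, Cfsg.Agent.LsF.bbeq_pat, Cfsg.Agent.LsF.and_eq, Cfsg.Agent.LsF.or_eq, Cfsg.Agent.LsF.not_eq])); decide +kernel)

theorem anyL_of_mem {P : T → Bool} : ∀ {L : List T} {t : T}, t ∈ L → P t = true → anyL L P = true
  | [], t, h, _ => by simp at h
  | u :: L, t, h, hP => by
    rw [anyL, Bool.or_eq_true]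
    rcases List.mem_cons.1 h with rfl | h
    · exact Or.inl hP
    · exact Or.inr (anyL_of_mem h hP)

section

variable {G : Type*} [Group G] {Q : Subgroup G} {z i j k l x₁ x₂ y s d e : G}

theorem ev_pp (m n : C3) : (pp m n).ev z i j k l x₁ x₂ y s = pw3 m x₁ * pw3 n x₂ := by
  simp [pp, T.ev, Qt.ev, pw]

theorem mem_closure (h : Tw Q z i j k l x₁ x₂ y s) {g : G}
    (hg : g ∈ Subgroup.closure ({x₁ * x₂, x₁ * x₂⁻¹} : Set G)) : ∃ m n : C3, g = pw3 m x₁ * pw3 n x₂ := by
  have R := h.rules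
  induction hg using Subgroup.closure_induction with
  | mem x hx =>
    rcases hx with rfl | rfl
    · exact ⟨C3.p, C3.p, rfl⟩
    · exact ⟨C3.p, C3.q, by rw [inv_x₂ R]; rfl⟩
  | one => exact ⟨C3.o, C3.o, by simp [pw3]⟩
  | mul a b _ _ ha hb =>
    obtain ⟨m, n, rfl⟩ := ha
    obtain ⟨m', n', rfl⟩ := hb
    exact ⟨m.add m', n.add n', XX R m n m' n'⟩
  | inv a _ ha =>
    obtain ⟨m, n, rfl⟩ := ha
    refine ⟨m.neg, n.neg, ?_⟩
    rw [inv_eq_iff_mul_eq_one, XX R]
    cases m <;> cases n <;> simp [C3.add, C3.neg, pw3]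

theorem loc (h : Tw Q z i j k l x₁ x₂ y s) [Finite G] : Loc z s (x₁ * x₂) (x₁ * x₂⁻¹) := by
  have R := h.rules
  have inj := ev_inj h.toCase9aa R
  set EV : T → G := fun t => t.ev z i j k l x₁ x₂ y s with hEV
  have emul : ∀ t u, EV t * EV u = EV (mu t u) := fun t u => ev_mul R t u
  have e1 : EV T.one = 1 := ev_one
  have er : EV tr = x₁ * x₂ := by rw [tr, ← emul]; simp only [hEV, ev_x₁, ev_x₂]
  have ek : EV tκ = x₁ * (x₂ * x₂) := by rw [tκ, ← emul, ← emul]; simp only [hEV, ev_x₁, ev_x₂]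
  have hr3 : (x₁ * x₂) ^ 3 = 1 := by
    rw [pow_succ, pow_two]; coll R
  rw [inv_x₂ R]
  refine ⟨h.large.z_ne, R.zz, R.ss, R.zs.symm, ?_, hr3, ?_, ?_, ?_, ?_, ?_, ?_, ?_⟩
  · intro h'
    have : EV tr = EV T.one := by rw [er, e1, h']
    have := congrArg (fun t : T => T.beq t T.one) (inj this)
    exact absurd this (by decide +kernel)
  · rw [pow_succ, pow_two]; coll R
  · rintro ⟨n, hn⟩
    have hn' : (x₁ * x₂) ^ n = x₁ * (x₂ * x₂) := hn
    have h3 : ∀ n : ℤ, (x₁ * x₂) ^ n = 1 ∨ (x₁ * x₂) ^ n = x₁ * x₂ ∨ (x₁ * x₂) ^ n = x₁ * x₂ * (x₁ * x₂) := by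
      intro n
      have hmod : (x₁ * x₂) ^ n = (x₁ * x₂) ^ (n % 3) := by
        conv_lhs => rw [← Int.emod_add_mul_ediv n 3]
        rw [zpow_add, zpow_mul]
        have : (x₁ * x₂) ^ (3 : ℤ) = 1 := by exact_mod_cast hr3
        rw [this, one_zpow, mul_one]
      have h0 := Int.emod_nonneg n (show (3 : ℤ) ≠ 0 by norm_num)
      have h1 := Int.emod_lt_of_pos n (show (0 : ℤ) < 3 by norm_num)
      have hcases : n % 3 = 0 ∨ n % 3 = 1 ∨ n % 3 = 2 := by omega
      rcases hcases with h2 | h2 | h2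
      · left; rw [hmod, h2, zpow_zero]
      · right; left; rw [hmod, h2, zpow_one]
      · right; right
        rw [hmod, h2, show (2 : ℤ) = 1 + 1 by norm_num, zpow_add, zpow_one]
    rcases h3 n with h4 | h4 | h4
    · have : EV tκ = EV T.one := by rw [ek, e1, ← hn', h4]
      have := congrArg (fun t : T => T.beq t T.one) (inj this)
      exact absurd this (by decide +kernel)
    · have : EV tκ = EV tr := by rw [ek, er, ← hn', h4]
      have := congrArg (fun t : T => T.beq t tr) (inj this)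
      exact absurd this (by decide +kernel)
    · have : EV tκ = EV (mu tr tr) := by rw [ek, ← emul, er, ← hn', h4]
      have := congrArg (fun t : T => T.beq t (mu tr tr)) (inj this)
      exact absurd this (by decide +kernel)
  · coll R
  · coll R
  · coll R
  · coll R
  · have e : (x₁ * (x₂ * x₂))⁻¹ = x₁ * x₁ * x₂ := by
      rw [inv_eq_iff_mul_eq_one]; coll R
    rw [e, mul_inv_eq_iff_eq_mul]; coll R

theorem hcent (h : Tw Q z i j k l x₁ x₂ y s) [Finite G] {g : G} (hz : g * z = z * g)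
    (hr : g * (x₁ * x₂) = x₁ * x₂ * g) : g ∈ Subgroup.closure ({x₁ * x₂, x₁ * x₂⁻¹, z, s} : Set G) := by
  have R := h.rules
  have inj := ev_inj h.toCase9aa R
  obtain ⟨t, rfl⟩ := exists_ev h.toCase9aa R hz
  set EV : T → G := fun t => t.ev z i j k l x₁ x₂ y s with hEV
  have emul : ∀ t u, EV t * EV u = EV (mu t u) := fun t u => ev_mul R t u
  have er : EV tr = x₁ * x₂ := by rw [tr, ← emul]; simp only [hEV, ev_x₁, ev_x₂]
  have h1 := allT_spec factA t
  simp only [Bool.or_eq_true, Bool.not_eq_true', Bool.and_eq_true] at h1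
  have hr' : EV (mu t tr) = EV (mu tr t) := by rw [← emul, ← emul, er]; exact hr
  rcases h1 with h1 | ⟨ha, hb, hc, hd, he⟩
  · rw [← Bool.not_eq_true, T.beq_iff] at h1
    exact absurd (inj hr') h1
  set M := Subgroup.closure ({x₁ * x₂, x₁ * x₂⁻¹, z, s} : Set G) with hM
  have m1 : x₁ * x₂ ∈ M := Subgroup.subset_closure (by simp)
  have m2 : x₁ * x₂⁻¹ ∈ M := Subgroup.subset_closure (by simp)
  have m3 : z ∈ M := Subgroup.subset_closure (by simp)
  have m4 : s ∈ M := Subgroup.subset_closure (by simp)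
  have mx₁ : x₁ ∈ M := by
    have e : x₁ = (x₁ * x₂) * (x₁ * x₂⁻¹) * ((x₁ * x₂) * (x₁ * x₂⁻¹)) := by
      rw [inv_x₂ R]
      have : x₁ * (x₁ * (x₁ * x₁)) = x₁ := by rw [R.xxx, mul_one]
      conv_lhs => rw [← this]
      coll R
    rw [e]
    exact mul_mem (mul_mem m1 m2) (mul_mem m1 m2)
  have mx₂ : x₂ ∈ M := by
    have e : x₂ = x₁⁻¹ * (x₁ * x₂) := by group
    rw [e]; exact mul_mem (inv_mem mx₁) m1
  have mz : ∀ b : Bool, pw b z ∈ M := by
    intro b; cases b
    · exact one_mem M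
    · exact m3
  have ms : ∀ b : Bool, pw b s ∈ M := by
    intro b; cases b
    · exact one_mem M
    · exact m4
  have mp : ∀ (m : C3) (x : G), x ∈ M → pw3 m x ∈ M := by
    intro m x hx; cases m
    · exact one_mem M
    · exact hx
    · exact mul_mem hx hx
  rw [T.ev, Qt.ev, ha, hb, hc, hd, he]
  simp only [pw, cond_false, mul_one, one_mul]
  exact mul_mem (mz _) (mul_mem (mp _ _ mx₁) (mul_mem (mp _ _ mx₂) (ms _)))

theorem hN (h : Tw Q z i j k l x₁ x₂ y s) [Finite G] {n : G} (hz : n * z = z * n)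
    (h1 : n * (x₁ * x₂) * n⁻¹ ∈ Subgroup.closure ({x₁ * x₂, x₁ * x₂⁻¹} : Set G))
    (h2 : n * (x₁ * x₂⁻¹) * n⁻¹ ∈ Subgroup.closure ({x₁ * x₂, x₁ * x₂⁻¹} : Set G)) :
    n * (x₁ * x₂) * n⁻¹ ∈ Subgroup.zpowers (x₁ * x₂) := by
  have R := h.rules
  have inj := ev_inj h.toCase9aa R
  obtain ⟨t, rfl⟩ := exists_ev h.toCase9aa R hz
  set EV : T → G := fun t => t.ev z i j k l x₁ x₂ y s with hEV
  have emul : ∀ t u, EV t * EV u = EV (mu t u) := fun t u => ev_mul R t u
  have er : EV tr = x₁ * x₂ := by rw [tr, ← emul]; simp only [hEV, ev_x₁, ev_x₂]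
  have ek : EV tκ = x₁ * x₂⁻¹ := by rw [tκ, ← emul, ← emul, inv_x₂ R]; simp only [hEV, ev_x₁, ev_x₂]
  obtain ⟨m, n, h1⟩ := mem_closure h h1
  obtain ⟨m', n', h2⟩ := mem_closure h h2
  have h1' : mu t tr = mu (pp m n) t := by
    apply inj
    show EV (mu t tr) = EV (mu (pp m n) t)
    rw [← emul, ← emul, er, show EV (pp m n) = pw3 m x₁ * pw3 n x₂ from ev_pp m n, ← h1]
    show _ = EV t * (x₁ * x₂) * (EV t)⁻¹ * EV t
    group
  have h2' : mu t tκ = mu (pp m' n') t := by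
    apply inj
    show EV (mu t tκ) = EV (mu (pp m' n') t)
    rw [← emul, ← emul, ek, show EV (pp m' n') = pw3 m' x₁ * pw3 n' x₂ from ev_pp m' n', ← h2]
    show _ = EV t * (x₁ * x₂⁻¹) * (EV t)⁻¹ * EV t
    group
  have h3 := allT_spec factN t
  simp only [Bool.or_eq_true, Bool.not_eq_true'] at h3
  rcases h3 with h3 | h3 | h3 | h3
  · rw [anyL_of_mem (P := fun p => T.beq (mu t tr) (mu p t)) (mem_P9 m n) (T.beq_iff.2 h1')] at h3
    exact absurd h3 (by decide)
  · rw [anyL_of_mem (P := fun p => T.beq (mu t tκ) (mu p t)) (mem_P9 m' n') (T.beq_iff.2 h2')] at h3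
    exact absurd h3 (by decide)
  · have h4 := congrArg EV (T.eq_of_beq h3)
    rw [← emul, ← emul, er] at h4
    refine ⟨1, ?_⟩
    show (x₁ * x₂) ^ (1 : ℤ) = EV t * (x₁ * x₂) * (EV t)⁻¹
    rw [h4]; group
  · have h4 := congrArg EV (T.eq_of_beq h3)
    rw [← emul, ← emul, ← emul, er] at h4
    refine ⟨2, ?_⟩
    show (x₁ * x₂) ^ (2 : ℤ) = EV t * (x₁ * x₂) * (EV t)⁻¹
    rw [h4, show (2 : ℤ) = 1 + 1 by norm_num, zpow_add, zpow_one]; group

/-- `d` is conjugate to `ρ` -/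
theorem hconj (h : Tw Q z i j k l x₁ x₂ y s) (hd : Del z i j k l x₁ x₂ y s d) [Finite G] :
    IsConj d (x₁ * x₂) := by
  have R := h.rules
  have inj := ev_inj h.toCase9aa R
  set EV : T → G := fun t => t.ev z i j k l x₁ x₂ y s with hEV
  have emul : ∀ t u, EV t * EV u = EV (mu t u) := fun t u => ev_mul R t u
  have e1 : EV T.one = 1 := ev_one
  have ez : EV tz = z := ev_z
  have es : EV ts = s := ev_s
  have er : EV tr = x₁ * x₂ := by rw [tr, ← emul]; simp only [hEV, ev_x₁, ev_x₂]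
  have eik : EV tik = i * k := by rw [tik, ← emul]; simp only [hEV, ev_i, ev_k]
  -- conjugation by `d`
  have d1 : d * z * d⁻¹ = s := hd.dz
  have d2 : d * s * d⁻¹ = s * z := hd.ds
  have d3 : d * (s * z) * d⁻¹ = z := by
    calc d * (s * z) * d⁻¹ = (d * s * d⁻¹) * (d * z * d⁻¹) := by group
      _ = s * (z * s) := by rw [d1, d2]; group
      _ = z := by rw [show z * s = s * z from R.zs.symm, ← mul_assoc, R.ss]; simp [pw]
  have f1 : d⁻¹ * s * d = z := by rw [← d1]; group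
  have f2 : d⁻¹ * (s * z) * d = s := by rw [← d2]; group
  have f3 : d⁻¹ * z * d = s * z := by
    calc d⁻¹ * z * d = d⁻¹ * (d * (s * z) * d⁻¹) * d := by rw [d3]
      _ = s * z := by group
  have dik : d * (i * k) * d⁻¹ = i * k := by rw [hd.dik]; group
  have djl : d * (j * l) * d⁻¹ = j * l := by rw [hd.djl]; group
  have fik : d⁻¹ * (i * k) * d = i * k := by
    rw [mul_assoc, ← hd.dik]; group
  have fjl : d⁻¹ * (j * l) * d = j * l := by
    rw [mul_assoc, ← hd.djl]; group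
  have iz := R.zz
  have ii : i⁻¹ = i * z := by
    rw [inv_eq_iff_mul_eq_one]; coll R
  have ij : j⁻¹ = j * z := by
    rw [inv_eq_iff_mul_eq_one]; coll R
  -- `g = j⁻¹ d⁻¹ i d²`
  set g := j⁻¹ * d⁻¹ * i * (d * d) with hg
  have gz : g * z * g⁻¹ = i * k := by
    calc g * z * g⁻¹ = j⁻¹ * (d⁻¹ * (i * (d * (d * z * d⁻¹) * d⁻¹) * i⁻¹) * d) * j := by rw [hg]; group
      _ = j⁻¹ * (d⁻¹ * (i * (s * z) * i⁻¹) * d) * j := by rw [d1, d2]
      _ = j⁻¹ * (d⁻¹ * (s * (i * k)) * d) * j := by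
          have : i * (s * z) * i⁻¹ = s * (i * k) := by
            rw [ii]; coll R
          rw [this]
      _ = j⁻¹ * ((d⁻¹ * s * d) * (d⁻¹ * (i * k) * d)) * j := by group
      _ = j⁻¹ * (z * (i * k)) * j := by rw [f1, fik]
      _ = i * k := by rw [ij]; coll R
  have gs : g * s * g⁻¹ = s * (j * l) := by
    calc g * s * g⁻¹ = j⁻¹ * (d⁻¹ * (i * (d * (d * s * d⁻¹) * d⁻¹) * i⁻¹) * d) * j := by rw [hg]; group
      _ = j⁻¹ * (d⁻¹ * (i * z * i⁻¹) * d) * j := by rw [d2, d3]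
      _ = j⁻¹ * (d⁻¹ * z * d) * j := by
          have : i * z * i⁻¹ = z := by
            rw [ii]; coll R
          rw [this]
      _ = j⁻¹ * (s * z) * j := by rw [f3]
      _ = s * (j * l) := by rw [ij]; coll R
  have gz' : g⁻¹ * z * g = z * (i * k) := by
    have hdd : (d * d)⁻¹ = d := by
      have := hd.d3
      rw [inv_eq_iff_mul_eq_one, ← this, pow_succ, pow_two]
    have hdd' : d * d = d⁻¹ := by rw [← hdd, inv_inv, hdd]
    calc g⁻¹ * z * g = (d * d)⁻¹ * (i⁻¹ * (d * (j * z * j⁻¹) * d⁻¹) * i) * (d * d) := by rw [hg]; group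
      _ = d * (i⁻¹ * (d * (j * z * j⁻¹) * d⁻¹) * i) * d⁻¹ := by rw [hdd, hdd']
      _ = d * (i⁻¹ * (d * z * d⁻¹) * i) * d⁻¹ := by
          have : j * z * j⁻¹ = z := by
            rw [ij]; coll R
          rw [this]
      _ = d * ((s * z) * (i * k)) * d⁻¹ := by
          have : i⁻¹ * s * i = (s * z) * (i * k) := by
            rw [ii]; coll R
          rw [d1, this]
      _ = (d * (s * z) * d⁻¹) * (d * (i * k) * d⁻¹) := by group
      _ = z * (i * k) := by rw [d3, dik]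
  -- `d' = g⁻¹ d g`
  set d' := g⁻¹ * d * g with hd'
  have hz' : d' * z = z * d' := by
    have : d' * z * d'⁻¹ = z := by
      calc d' * z * d'⁻¹ = g⁻¹ * (d * (g * z * g⁻¹) * d⁻¹) * g := by rw [hd']; group
        _ = g⁻¹ * (g * z * g⁻¹) * g := by rw [gz, dik]
        _ = z := by group
    calc d' * z = (d' * z * d'⁻¹) * d' := by group
      _ = z * d' := by rw [this]
  have hs' : d' * s = z * (i * k * s) * d' := by
    have : d' * s * d'⁻¹ = z * (i * k * s) := by
      calc d' * s * d'⁻¹ = g⁻¹ * (d * (g * s * g⁻¹) * d⁻¹) * g := by rw [hd']; group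
        _ = g⁻¹ * ((d * s * d⁻¹) * (d * (j * l) * d⁻¹)) * g := by rw [gs]; group
        _ = g⁻¹ * (z * (s * (j * l))) * g := by
            rw [d2, djl, R.zs]; group
        _ = (g⁻¹ * z * g) * (g⁻¹ * (s * (j * l)) * g) := by group
        _ = (z * (i * k)) * s := by rw [gz', ← gs]; group
        _ = z * (i * k * s) := by group
    calc d' * s = (d' * s * d'⁻¹) * d' := by group
      _ = z * (i * k * s) * d' := by rw [this]
  obtain ⟨t, ht⟩ := exists_ev h.toCase9aa R hz'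
  have ht' : d' = EV t := ht
  have hc1 : mu t (mu t t) = T.one := by
    apply inj
    show EV (mu t (mu t t)) = EV T.one
    rw [← emul, ← emul, ← ht', e1]
    calc d' * (d' * d') = g⁻¹ * d ^ 3 * g := by rw [hd', pow_succ, pow_two]; group
      _ = 1 := by rw [hd.d3]; group
  have hc2 : mu t ts = mu (mu tz (mu tik ts)) t := by
    apply inj
    show EV (mu t ts) = EV (mu (mu tz (mu tik ts)) t)
    rw [← emul, ← emul, ← emul, ← emul, ← ht', ez, es, eik]
    exact hs'
  have h3 := allT_spec factC t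
  simp only [Bool.or_eq_true, Bool.not_eq_true'] at h3
  have h4 : ∃ w ∈ Q16, mu t w = mu w tr ∨ mu t w = mu w (mu tr tr) := by
    rcases h3 with h3 | h3 | h3
    · rw [← Bool.not_eq_true, T.beq_iff] at h3
      exact absurd hc1 h3
    · rw [← Bool.not_eq_true, T.beq_iff] at h3
      exact absurd hc2 h3
    · obtain ⟨w, hw, hP⟩ := anyL_mem h3
      refine ⟨w, hw, ?_⟩
      rw [Bool.or_eq_true] at hP
      rcases hP with hP | hP
      · exact Or.inl (T.eq_of_beq hP)
      · exact Or.inr (T.eq_of_beq hP)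
  have hconj' : IsConj d d' := isConj_iff.2 ⟨g⁻¹, by rw [hd']; group⟩
  refine hconj'.trans ?_
  obtain ⟨w, -, hw⟩ := h4
  rcases hw with hw | hw
  · have h5 := congrArg EV hw
    rw [← emul, ← emul, er, ← ht'] at h5
    refine isConj_iff.2 ⟨(EV w)⁻¹, ?_⟩
    calc (EV w)⁻¹ * d' * (EV w)⁻¹⁻¹ = (EV w)⁻¹ * (d' * EV w) := by group
      _ = x₁ * x₂ := by rw [h5]; group
  · have h5 := congrArg EV hw
    rw [← emul, ← emul, ← emul, er, ← ht'] at h5
    have h6 : IsConj d' ((x₁ * x₂) * (x₁ * x₂)) := by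
      refine isConj_iff.2 ⟨(EV w)⁻¹, ?_⟩
      calc (EV w)⁻¹ * d' * (EV w)⁻¹⁻¹ = (EV w)⁻¹ * (d' * EV w) := by group
        _ = (x₁ * x₂) * (x₁ * x₂) := by rw [h5]; group
    refine h6.trans (isConj_iff.2 ⟨y, ?_⟩)
    rw [mul_inv_eq_iff_eq_mul]; coll R

/-- `κ` commutes with `d κ d⁻¹` -/
theorem j1κ (h : Tw Q z i j k l x₁ x₂ y s) (hd : Del z i j k l x₁ x₂ y s d) [Finite G] :
    Commute (x₁ * x₂⁻¹) (d * (x₁ * x₂⁻¹) * d⁻¹) := by
  have R := h.rules
  refine three_local (loc h) (fun g hz hr => hcent h hz hr) hd.dr hd.dz (by rw [hd.ds, R.zs]) hd.d3 ?_ ?_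
    (fun n hz h1 h2 => hN h hz h1 h2) (hconj h hd)
  · intro h'
    have inj := ev_inj h.toCase9aa R
    have : ts.ev z i j k l x₁ x₂ y s = tz.ev z i j k l x₁ x₂ y s := by rw [ev_s, ev_z, h']
    exact absurd (congrArg T.f (inj this)) (by decide)
  · rw [h.card_cent]; norm_num

/-- **(J1)** -/
theorem j1 (h : Tw Q z i j k l x₁ x₂ y s) (hd : Del z i j k l x₁ x₂ y s d) [Finite G] :
    Commute x₁ (d * x₁ * d⁻¹) := by
  have R := h.rules
  have h0 := j1κ h hd
  set κ := x₁ * x₂⁻¹ with hκ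
  set κs := d * κ * d⁻¹ with hκs
  have hx : x₁ = ((x₁ * x₂) * κ)⁻¹ := by
    rw [hκ, inv_x₂ R, eq_inv_iff_mul_eq_one]; coll R
  have hρκ : Commute (x₁ * x₂) κ := by
    show (x₁ * x₂) * κ = κ * (x₁ * x₂)
    rw [hκ, inv_x₂ R]; coll R
  have hdρ : d * (x₁ * x₂) * d⁻¹ = x₁ * x₂ := by rw [hd.dr]; group
  have hρκs : Commute (x₁ * x₂) κs := by
    show (x₁ * x₂) * κs = κs * (x₁ * x₂)
    calc (x₁ * x₂) * κs = (d * (x₁ * x₂) * d⁻¹) * (d * κ * d⁻¹) := by rw [hdρ]
      _ = d * ((x₁ * x₂) * κ) * d⁻¹ := by group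
      _ = d * (κ * (x₁ * x₂)) * d⁻¹ := by rw [hρκ.eq]
      _ = (d * κ * d⁻¹) * (d * (x₁ * x₂) * d⁻¹) := by group
      _ = κs * (x₁ * x₂) := by rw [hdρ]
  have e1 : d * x₁ * d⁻¹ = ((x₁ * x₂) * κs)⁻¹ := by
    calc d * x₁ * d⁻¹ = d * ((x₁ * x₂) * κ)⁻¹ * d⁻¹ := by rw [← hx]
      _ = ((d * (x₁ * x₂) * d⁻¹) * (d * κ * d⁻¹))⁻¹ := by group
      _ = _ := by rw [hdρ]
  rw [e1]
  apply Commute.inv_right
  have h1 : Commute ((x₁ * x₂) * κ) ((x₁ * x₂) * κs) :=
    Commute.mul_left (Commute.mul_right (Commute.refl _) hρκs) (Commute.mul_right hρκ.symm h0)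
  have h2 : Commute (((x₁ * x₂) * κ)⁻¹) ((x₁ * x₂) * κs) := h1.inv_left
  rw [← hx] at h2
  exact h2

end

end Cfsg.Agent.LargeExtra.W2.U43.ThreeLoc
end

-- part: LargeExtra/W2/U43/ThreeLocJ
section
/-!
# `U₄(3)` (S1759): the second 3-local relation (helper865)

* `inv_mem` : the elements of order three of `C_G(ρ, κ)` inverted by `z` lie in `⟨κ_s, κ_{sz}⟩`.
* `j2` : `e ρ e⁻¹ = κ_s κ_{sz}⁻¹` for `e` or for `z e z⁻¹`, `κ_s = d κ d⁻¹`, `κ_{sz} = d⁻¹ κ d`.
-/

set_option autoImplicit false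
set_option linter.unusedSimpArgs false
set_option linter.unusedVariables false

namespace Cfsg.Agent.LargeExtra.W2.U43.ThreeLocJ

open Cfsg.Agent.LargeExtra.W2.CM Cfsg.Agent.LargeExtra.W2.U43 Cfsg.Agent.LargeExtra.W2.ThreeLocal
open Cfsg.Agent.LargeExtra.W2.U43.ThreeLoc

section general

variable {G : Type*} [Group G]

theorem conj_comm {g a b : G} (h : Commute a b) : Commute (g * a * g⁻¹) (g * b * g⁻¹) := by
  show g * a * g⁻¹ * (g * b * g⁻¹) = g * b * g⁻¹ * (g * a * g⁻¹)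
  calc g * a * g⁻¹ * (g * b * g⁻¹) = g * (a * b) * g⁻¹ := by group
    _ = g * (b * a) * g⁻¹ := by rw [h.eq]
    _ = _ := by group

/-- `{p u^a w^b}`, `p ∈ P`, commuting elements -/
def mGrp (P : Subgroup G) (u w : G) (huw : Commute u w) (hu : ∀ p ∈ P, Commute p u) (hw : ∀ p ∈ P, Commute p w) :
    Subgroup G where
  carrier := {g | ∃ p ∈ P, ∃ a b : ℤ, g = p * (u ^ a * w ^ b)}
  one_mem' := ⟨1, P.one_mem, 0, 0, by simp⟩
  mul_mem' := by
    rintro _ _ ⟨p, hp, a, b, rfl⟩ ⟨p', hp', a', b', rfl⟩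
    refine ⟨p * p', P.mul_mem hp hp', a + a', b + b', ?_⟩
    have h1 : Commute (u ^ a * w ^ b) p' :=
      ((hu p' hp').symm.zpow_left a).mul_left ((hw p' hp').symm.zpow_left b)
    have h2 : Commute (w ^ b) (u ^ a') := huw.symm.zpow_zpow b a'
    calc p * (u ^ a * w ^ b) * (p' * (u ^ a' * w ^ b'))
        = p * ((u ^ a * w ^ b) * p') * (u ^ a' * w ^ b') := by group
      _ = p * p' * (u ^ a * (w ^ b * u ^ a') * w ^ b') := by rw [h1.eq]; group
      _ = p * p' * (u ^ (a + a') * w ^ (b + b')) := by rw [h2.eq, zpow_add, zpow_add]; group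
  inv_mem' := by
    rintro _ ⟨p, hp, a, b, rfl⟩
    refine ⟨p⁻¹, P.inv_mem hp, -a, -b, ?_⟩
    have h1 : Commute (u ^ a * w ^ b) p := ((hu p hp).symm.zpow_left a).mul_left ((hw p hp).symm.zpow_left b)
    have h2 : Commute (u ^ a) (w ^ b) := huw.zpow_zpow a b
    rw [← h1.eq, mul_inv_rev, h2.eq, mul_inv_rev, zpow_neg, zpow_neg]

theorem inv_mem [Finite G] {z v ρ c y : G} (h : Loc z v ρ c)
    (hcent : ∀ g, g * z = z * g → g * ρ = ρ * g → g ∈ Subgroup.closure ({ρ, c, z, v} : Set G))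
    (hyρ : y * ρ = ρ * y) (hyz : y * z * y⁻¹ = v) (hyv : y * v * y⁻¹ = z * v) (hy3 : y ^ 3 = 1)
    (hcom : Commute c (y * c * y⁻¹)) {t : G} (htρ : t * ρ = ρ * t) (htc : t * c = c * t)
    (htz : z * t * z⁻¹ = t⁻¹) (ht3 : t ^ 3 = 1) :
    Commute (y * c * y⁻¹) (y⁻¹ * c * y) ∧ ∃ a b : ℤ, t = (y * c * y⁻¹) ^ a * (y⁻¹ * c * y) ^ b := by
  obtain ⟨F, hFodd, hFmem, -⟩ := exists_compl h hcent
  have hyy : y * y = y⁻¹ := by
    rw [eq_inv_iff_mul_eq_one, ← hy3, pow_succ, pow_two]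
  set cs := y * c * y⁻¹ with hcs
  set ct := y⁻¹ * c * y with hct
  have e1 : y * cs * y⁻¹ = ct := by
    calc y * cs * y⁻¹ = (y * y) * c * (y * y)⁻¹ := by rw [hcs]; group
      _ = ct := by rw [hyy, inv_inv]
  have e2 : y * ct * y⁻¹ = c := by rw [hct]; group
  have k1 : Commute cs ct := by
    have := conj_comm (g := y) hcom
    rwa [e1] at this
  have k2 : Commute ct c := by
    have := conj_comm (g := y) k1
    rwa [e1, e2] at this
  have hρρ : y * ρ * y⁻¹ = ρ := by rw [hyρ]; group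
  have hρc : Commute ρ c := h.ρc
  have k3 : Commute ρ cs := by
    have := conj_comm (g := y) hρc
    rwa [hρρ] at this
  have k4 : Commute ρ ct := by
    have := conj_comm (g := y) k3
    rwa [hρρ, e1] at this
  have ku : ∀ p ∈ pGrp ρ c h.ρc, Commute p cs := by
    rintro p ⟨a, b, rfl⟩
    exact (k3.zpow_left a).mul_left (hcom.zpow_left b)
  have kw : ∀ p ∈ pGrp ρ c h.ρc, Commute p ct := by
    rintro p ⟨a, b, rfl⟩
    exact (k4.zpow_left a).mul_left (k2.symm.zpow_left b)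
  refine ⟨k1, ?_⟩
  -- `z` inverts `cs`, `ct`
  have hyzv : y * (z * v) * y⁻¹ = z := by
    have e : y * (z * v) * y⁻¹ = (y * z * y⁻¹) * (y * v * y⁻¹) := by group
    rw [e, hyz, hyv, ← mul_assoc, ← h.zv, mul_assoc, h.vv, mul_one]
  have i1 : z * cs * z⁻¹ = cs⁻¹ := by
    calc z * cs * z⁻¹ = (y * (z * v) * y⁻¹) * cs * (y * (z * v) * y⁻¹)⁻¹ := by rw [hyzv]
      _ = y * ((z * v) * c * (z * v)⁻¹) * y⁻¹ := by rw [hcs]; group
      _ = cs⁻¹ := by rw [h.zvc, hcs]; group
  have hyvz : y⁻¹ * v * y = z := by rw [← hyz]; group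
  have i2 : z * ct * z⁻¹ = ct⁻¹ := by
    calc z * ct * z⁻¹ = (y⁻¹ * v * y) * ct * (y⁻¹ * v * y)⁻¹ := by rw [hyvz]
      _ = y⁻¹ * (v * c * v⁻¹) * y := by rw [hct]; group
      _ = ct⁻¹ := by rw [h.vc, hct]; group
  set M := mGrp (pGrp ρ c h.ρc) cs ct k1 ku kw with hM
  have hFM : F ≤ M := by
    have inF : ∀ f ∈ F, ∀ g : G, g * f * g⁻¹ ∈ kGrp ρ c → g * f * g⁻¹ ∈ F := by
      intro f hf g hg
      rw [hFmem]
      refine ⟨hg, ?_⟩
      have h1 := ((hFmem f).1 hf).2
      have : orderOf (g * f * g⁻¹) = orderOf f := by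
        have := (MulAut.conj g).orderOf_eq f
        simpa using this
      rw [this]; exact h1
    refine Cfsg.Agent.Lib.KleinGen.le_of_klein F M hFodd z v h.zz h.vv h.zv ?_ ?_ ?_ ?_ ?_
    · intro f hf
      apply inF f hf
      exact Subgroup.mul_mem _ (Subgroup.mul_mem _ h.z_mem_k ((hFmem f).1 hf).1)
        (Subgroup.inv_mem _ h.z_mem_k)
    · intro f hf
      apply inF f hf
      obtain ⟨⟨h1, a, h2⟩, -⟩ := (hFmem f).1 hf
      have hvρ : Commute v ρ := h.vρ
      have hfρ : Commute f ρ := h1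
      refine ⟨((hvρ.mul_left hfρ).mul_left hvρ.inv_left).eq, -a, ?_⟩
      have hvc : v⁻¹ * c * v = c⁻¹ := by
        have := h.vc
        rw [h.v_inv] at this ⊢
        exact this
      calc v * f * v⁻¹ * c * (v * f * v⁻¹)⁻¹ = v * (f * (v⁻¹ * c * v) * f⁻¹) * v⁻¹ := by group
        _ = v * (f * c * f⁻¹)⁻¹ * v⁻¹ := by rw [hvc]; group
        _ = (v * (c * ρ ^ a) * v⁻¹)⁻¹ := by rw [h2]; group
        _ = ((v * c * v⁻¹) * (v * ρ ^ a * v⁻¹))⁻¹ := by group
        _ = (c⁻¹ * ρ ^ a)⁻¹ := by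
            have : v * ρ ^ a * v⁻¹ = ρ ^ a := by rw [(hvρ.zpow_right a).eq]; group
            rw [h.vc, this]
        _ = ρ ^ (-a) * c := by group
        _ = c * ρ ^ (-a) := (hρc.zpow_left (-a)).eq
    · rintro f ⟨hf, hfz⟩
      obtain ⟨⟨h1, -⟩, h2⟩ := (hFmem f).1 hf
      have h3 := hcent f (Subgroup.mem_centralizer_singleton_iff.1 hfz) h1
      exact ⟨f, h.odd_mem h3 h2, 0, 0, by simp⟩
    · rintro f ⟨hf, hfv⟩
      obtain ⟨⟨h1, -⟩, h2⟩ := (hFmem f).1 hf
      have hfv' := Subgroup.mem_centralizer_singleton_iff.1 hfv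
      have h3 : (y⁻¹ * f * y) * z = z * (y⁻¹ * f * y) := by
        have := conj_comm (g := y⁻¹) (show Commute f v from hfv')
        rw [inv_inv, hyvz] at this
        exact this.eq
      have h4 : (y⁻¹ * f * y) * ρ = ρ * (y⁻¹ * f * y) := by
        have e : y⁻¹ * ρ * y = ρ := by rw [mul_assoc, ← hyρ]; group
        have := conj_comm (g := y⁻¹) (show Commute f ρ from h1)
        rw [inv_inv, e] at this
        exact this.eq
      have h5 : Odd (orderOf (y⁻¹ * f * y)) := by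
        have := (MulAut.conj y⁻¹).orderOf_eq f
        simp only [MulAut.conj_apply, inv_inv] at this
        rw [this]; exact h2
      obtain ⟨a, b, hab⟩ := h.odd_mem (hcent _ h3 h4) h5
      refine ⟨ρ ^ a, ⟨a, 0, by simp⟩, b, 0, ?_⟩
      calc f = y * (y⁻¹ * f * y) * y⁻¹ := by group
        _ = y * (ρ ^ a * c ^ b) * y⁻¹ := by rw [hab]
        _ = (y * ρ ^ a * y⁻¹) * (y * c ^ b * y⁻¹) := by group
        _ = ρ ^ a * cs ^ b := by rw [← conj_zpow, ← conj_zpow, hρρ]
        _ = ρ ^ a * (cs ^ b * ct ^ (0 : ℤ)) := by simp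
    · rintro f ⟨hf, hfv⟩
      obtain ⟨⟨h1, -⟩, h2⟩ := (hFmem f).1 hf
      have hfv' := Subgroup.mem_centralizer_singleton_iff.1 hfv
      have h3 : (y * f * y⁻¹) * z = z * (y * f * y⁻¹) := by
        have := conj_comm (g := y) (show Commute f (z * v) from hfv')
        rw [hyzv] at this
        exact this.eq
      have h4 : (y * f * y⁻¹) * ρ = ρ * (y * f * y⁻¹) := by
        have := conj_comm (g := y) (show Commute f ρ from h1)
        rw [hρρ] at this
        exact this.eq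
      have h5 : Odd (orderOf (y * f * y⁻¹)) := by
        have := (MulAut.conj y).orderOf_eq f
        simp only [MulAut.conj_apply] at this
        rw [this]; exact h2
      obtain ⟨a, b, hab⟩ := h.odd_mem (hcent _ h3 h4) h5
      refine ⟨ρ ^ a, ⟨a, 0, by simp⟩, 0, b, ?_⟩
      have e3 : y⁻¹ * ρ * y = ρ := by rw [mul_assoc, ← hyρ]; group
      have e4 : y⁻¹ * ρ ^ a * y = ρ ^ a := by
        have := conj_zpow (i := a) (a := y⁻¹) (b := ρ)
        rw [inv_inv, e3] at this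
        exact this.symm
      have e5 : y⁻¹ * c ^ b * y = ct ^ b := by
        have := conj_zpow (i := b) (a := y⁻¹) (b := c)
        rw [inv_inv] at this
        exact this.symm
      calc f = y⁻¹ * (y * f * y⁻¹) * y := by group
        _ = y⁻¹ * (ρ ^ a * c ^ b) * y := by rw [hab]
        _ = (y⁻¹ * ρ ^ a * y) * (y⁻¹ * c ^ b * y) := by group
        _ = ρ ^ a * ct ^ b := by rw [e4, e5]
        _ = ρ ^ a * (cs ^ (0 : ℤ) * ct ^ b) := by simp
  have htF : t ∈ F := by
    rw [hFmem]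
    refine ⟨⟨htρ, 0, by rw [htc]; group⟩, ?_⟩
    have h1 : orderOf t ∣ 3 := orderOf_dvd_of_pow_eq_one ht3
    exact Odd.of_dvd_nat (by decide) h1
  obtain ⟨p, hp, a, b, hab⟩ := hFM htF
  refine ⟨a, b, ?_⟩
  -- `p = 1`
  have h1 : z * p * z⁻¹ = p := by rw [h.z_comm hp]; group
  have h2 : z * (cs ^ a * ct ^ b) * z⁻¹ = (cs ^ a * ct ^ b)⁻¹ := by
    calc z * (cs ^ a * ct ^ b) * z⁻¹ = (z * cs ^ a * z⁻¹) * (z * ct ^ b * z⁻¹) := by group
      _ = (cs⁻¹) ^ a * (ct⁻¹) ^ b := by rw [← conj_zpow, ← conj_zpow, i1, i2]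
      _ = (ct ^ b * cs ^ a)⁻¹ := by
          rw [mul_inv_rev (ct ^ b) (cs ^ a), inv_zpow, inv_zpow]
      _ = (cs ^ a * ct ^ b)⁻¹ := by rw [(k1.zpow_zpow a b).eq]
  have h3 : p * (cs ^ a * ct ^ b)⁻¹ = p⁻¹ * (cs ^ a * ct ^ b)⁻¹ := by
    have hc : Commute p (cs ^ a * ct ^ b) := ((ku p hp).zpow_right a).mul_right ((kw p hp).zpow_right b)
    calc p * (cs ^ a * ct ^ b)⁻¹ = (z * p * z⁻¹) * (z * (cs ^ a * ct ^ b) * z⁻¹) := by rw [h1, h2]
      _ = z * t * z⁻¹ := by rw [hab]; group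
      _ = t⁻¹ := htz
      _ = ((cs ^ a * ct ^ b) * p)⁻¹ := by rw [hab, hc.eq]
      _ = _ := by rw [mul_inv_rev]
  have h4 : p = p⁻¹ := mul_right_cancel h3
  have h5 : p ^ 3 = 1 := h.p_cube hp
  have h6 : p * p = 1 := by nth_rewrite 2 [h4]; group
  have h7 : p = 1 := by
    rw [pow_succ, pow_two, h6, one_mul] at h5
    exact h5
  rw [hab, h7, one_mul]

theorem zpow_three {x : G} (h3 : x ^ 3 = 1) (a : ℤ) : x ^ a = 1 ∨ x ^ a = x ∨ x ^ a = x⁻¹ := by
  have hmod : x ^ a = x ^ (a % 3) := by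
    conv_lhs => rw [← Int.emod_add_mul_ediv a 3]
    rw [zpow_add, zpow_mul]
    have : x ^ (3 : ℤ) = 1 := by exact_mod_cast h3
    rw [this, one_zpow, mul_one]
  have h0 := Int.emod_nonneg a (show (3 : ℤ) ≠ 0 by norm_num)
  have h1 := Int.emod_lt_of_pos a (show (0 : ℤ) < 3 by norm_num)
  have hcases : a % 3 = 0 ∨ a % 3 = 1 ∨ a % 3 = 2 := by omega
  rcases hcases with h2 | h2 | h2
  · left; rw [hmod, h2, zpow_zero]
  · right; left; rw [hmod, h2, zpow_one]
  · right; right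
    rw [hmod, h2]
    have : x ^ (2 : ℤ) = x * x := by rw [show (2 : ℤ) = 1 + 1 by norm_num, zpow_add, zpow_one]
    rw [this]
    rw [pow_succ, pow_two] at h3
    exact eq_inv_of_mul_eq_one_left h3

end general

section

variable {G : Type*} [Group G] {Q : Subgroup G} {z i j k l x₁ x₂ y s d e : G}

/-- **(J2)** -/
theorem j2 (h : Tw Q z i j k l x₁ x₂ y s) (hd : Del z i j k l x₁ x₂ y s d)
    (he : Del z i j (l * z) (k * z) x₁ x₂⁻¹ y (y * s) e) [Finite G] :
    e * (x₁ * x₂) * e⁻¹ = (d * (x₁ * x₂⁻¹) * d⁻¹) * (d⁻¹ * (x₁ * x₂⁻¹) * d)⁻¹ ∨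
    (z * e * z⁻¹) * (x₁ * x₂) * (z * e * z⁻¹)⁻¹ = (d * (x₁ * x₂⁻¹) * d⁻¹) * (d⁻¹ * (x₁ * x₂⁻¹) * d)⁻¹ := by
  have R := h.rules
  have hL := loc h
  set ρ := x₁ * x₂ with hρ
  set κ := x₁ * x₂⁻¹ with hκ
  have hρκ : Commute ρ κ := hL.ρc
  -- `t = e ρ e⁻¹`
  set t := e * ρ * e⁻¹ with ht
  have hzρ : Commute z ρ := hL.zρ
  have htρ : Commute ρ t := by
    have := j1κ h.mirror he
    rw [inv_inv] at this
    exact this
  have heκ : e * κ * e⁻¹ = κ := by
    rw [show e * κ = κ * e from he.dr]; group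
  have htκ : Commute t κ := by
    have := conj_comm (g := e) hρκ
    rwa [heκ] at this
  have ht3 : t ^ 3 = 1 := by rw [ht, conj_pow, hL.ρ3]; group
  have hρ1 : ρ ≠ 1 := hL.ρ1
  have ht1 : t ≠ 1 := by
    intro h1
    apply hρ1
    calc ρ = e⁻¹ * t * e := by rw [ht]; group
      _ = 1 := by rw [h1]; group
  -- `e : z → y s → y s z → z`
  have e1 : e * z * e⁻¹ = y * s := he.dz
  have e2 : e * (y * s) * e⁻¹ = y * s * z := he.ds
  have ysz : (y * s) * (y * s) = 1 := by coll R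
  have yszz : (y * s) * z = z * (y * s) := by coll R
  have e3 : e * (y * s * z) * e⁻¹ = z := by
    calc e * (y * s * z) * e⁻¹ = (e * (y * s) * e⁻¹) * (e * z * e⁻¹) := by group
      _ = y * s * z * (y * s) := by rw [e1, e2]
      _ = z * ((y * s) * (y * s)) := by rw [yszz]; group
      _ = z := by rw [ysz, mul_one]
  have htys : Commute t (y * s) := by
    have := conj_comm (g := e) hzρ
    rw [e1] at this
    exact this.symm
  have hsρ : s * ρ = ρ * s := hL.vρ
  have hyρ : y * ρ * y⁻¹ = ρ⁻¹ := by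
    rw [mul_inv_eq_iff_eq_mul]
    have : ρ⁻¹ = ρ * ρ := by
      rw [inv_eq_iff_mul_eq_one, ← hL.ρ3, pow_succ, pow_two]; group
    rw [this, hρ]; coll R
  have htz : z * t * z⁻¹ = t⁻¹ := by
    have h1 : (y * s * z) * ρ * (y * s * z)⁻¹ = ρ⁻¹ := by
      calc (y * s * z) * ρ * (y * s * z)⁻¹ = y * (s * (z * ρ * z⁻¹) * s⁻¹) * y⁻¹ := by group
        _ = y * (s * ρ * s⁻¹) * y⁻¹ := by rw [hzρ.eq]; group
        _ = y * ρ * y⁻¹ := by rw [hsρ]; group
        _ = ρ⁻¹ := hyρ
    calc z * t * z⁻¹ = (e * (y * s * z) * e⁻¹) * t * (e * (y * s * z) * e⁻¹)⁻¹ := by rw [e3]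
      _ = e * ((y * s * z) * ρ * (y * s * z)⁻¹) * e⁻¹ := by rw [ht]; group
      _ = t⁻¹ := by rw [h1, ht]; group
  obtain ⟨k1, a, b, hab⟩ := inv_mem hL (fun g hz hr => hcent h hz hr) hd.dr hd.dz (by rw [hd.ds, R.zs]) hd.d3
    (j1κ h hd) htρ.symm.eq htκ.eq htz ht3
  set cs := d * κ * d⁻¹ with hcs
  set ct := d⁻¹ * κ * d with hct
  have hcs3 : cs ^ 3 = 1 := by rw [hcs, conj_pow, hL.c3]; group
  have hct3 : ct ^ 3 = 1 := by
    have := conj_pow (i := 3) (a := d⁻¹) (b := κ)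
    rw [inv_inv, hL.c3] at this
    rw [hct, this]; group
  -- the action of `y s`
  have hyκ : y * κ * y⁻¹ = κ⁻¹ := by
    rw [mul_inv_eq_iff_eq_mul]
    have : κ⁻¹ = κ * κ := by
      rw [inv_eq_iff_mul_eq_one, ← hL.c3, pow_succ, pow_two]; group
    rw [this, hκ, inv_x₂ R]; coll R
  have zz' : z⁻¹ = z := inv_eq_of_mul_eq_one_left R.zz
  have hyd : y * d * y⁻¹ = d⁻¹ * z := hd.dy
  have hzκ : Commute z κ := hL.zc
  have hzκi : z * κ⁻¹ * z⁻¹ = κ⁻¹ := by rw [hzκ.inv_right.eq]; group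
  have ycs : y * cs * y⁻¹ = ct⁻¹ := by
    calc y * cs * y⁻¹ = (y * d * y⁻¹) * (y * κ * y⁻¹) * (y * d * y⁻¹)⁻¹ := by rw [hcs]; group
      _ = d⁻¹ * (z * κ⁻¹ * z⁻¹) * d := by rw [hyd, hyκ]; group
      _ = ct⁻¹ := by rw [hzκi, hct]; group
  have scs : s * cs * s⁻¹ = cs := by
    have : Commute s cs := by
      have := conj_comm (g := d) hzκ
      rwa [hd.dz] at this
    rw [this.eq]; group
  have ds' : d⁻¹ * (s * z) * d = s := by rw [← hd.ds]; group
  have sct : s * ct * s⁻¹ = ct⁻¹ := by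
    have h1 : (s * z) * κ * (s * z)⁻¹ = κ⁻¹ := by
      calc (s * z) * κ * (s * z)⁻¹ = s * (z * κ * z⁻¹) * s⁻¹ := by group
        _ = s * κ * s⁻¹ := by rw [hzκ.eq]; group
        _ = κ⁻¹ := hL.vc
    calc s * ct * s⁻¹ = (d⁻¹ * (s * z) * d) * ct * (d⁻¹ * (s * z) * d)⁻¹ := by rw [ds']
      _ = d⁻¹ * ((s * z) * κ * (s * z)⁻¹) * d := by rw [hct]; group
      _ = ct⁻¹ := by rw [h1, hct]; group
  -- `y` swaps also back
  have dd : d * z * d⁻¹ = s := hd.dz
  have zcs : z * cs * z⁻¹ = cs⁻¹ := by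
    have hdsz : d * (s * z) * d⁻¹ = z := by
      calc d * (s * z) * d⁻¹ = (d * s * d⁻¹) * (d * z * d⁻¹) := by group
        _ = s * (z * s) := by rw [hd.ds, dd]; group
        _ = z := by rw [show z * s = s * z from R.zs.symm, ← mul_assoc, R.ss]; simp [pw]
    have h1 : (s * z) * κ * (s * z)⁻¹ = κ⁻¹ := by
      calc (s * z) * κ * (s * z)⁻¹ = s * (z * κ * z⁻¹) * s⁻¹ := by group
        _ = s * κ * s⁻¹ := by rw [hzκ.eq]; group
        _ = κ⁻¹ := hL.vc
    calc z * cs * z⁻¹ = (d * (s * z) * d⁻¹) * cs * (d * (s * z) * d⁻¹)⁻¹ := by rw [hdsz]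
      _ = d * ((s * z) * κ * (s * z)⁻¹) * d⁻¹ := by rw [hcs]; group
      _ = cs⁻¹ := by rw [h1, hcs]; group
  have yct : y * ct * y⁻¹ = cs := by
    have hydi : y * d⁻¹ * y⁻¹ = z * d := by
      calc y * d⁻¹ * y⁻¹ = (y * d * y⁻¹)⁻¹ := by group
        _ = z * d := by rw [hyd, mul_inv_rev, inv_inv, zz']
    calc y * ct * y⁻¹ = (y * d⁻¹ * y⁻¹) * (y * κ * y⁻¹) * (y * d⁻¹ * y⁻¹)⁻¹ := by rw [hct]; group
      _ = z * (d * κ⁻¹ * d⁻¹) * z⁻¹ := by rw [hydi, hyκ]; group
      _ = (z * cs * z⁻¹)⁻¹ := by rw [hcs]; group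
      _ = cs := by rw [zcs, inv_inv]
  have yscs : (y * s) * cs * (y * s)⁻¹ = ct⁻¹ := by
    calc (y * s) * cs * (y * s)⁻¹ = y * (s * cs * s⁻¹) * y⁻¹ := by group
      _ = ct⁻¹ := by rw [scs, ycs]
  have ysct : (y * s) * ct * (y * s)⁻¹ = cs⁻¹ := by
    calc (y * s) * ct * (y * s)⁻¹ = y * (s * ct * s⁻¹) * y⁻¹ := by group
      _ = (y * ct * y⁻¹)⁻¹ := by rw [sct]; group
      _ = cs⁻¹ := by rw [yct]
  -- `cs^n = ct^{-n}`, `n = a + b`
  have h1 : t = (ct⁻¹) ^ a * (cs⁻¹) ^ b := by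
    calc t = (y * s) * t * (y * s)⁻¹ := by rw [← htys.eq]; group
      _ = ((y * s) * cs ^ a * (y * s)⁻¹) * ((y * s) * ct ^ b * (y * s)⁻¹) := by rw [hab]; group
      _ = _ := by rw [← conj_zpow, ← conj_zpow, yscs, ysct]
  have h2 : cs ^ (a + b) = ct ^ (-(a + b)) := by
    have e4 : cs ^ a * ct ^ b = ct ^ (-a) * cs ^ (-b) := by
      rw [← hab, h1, inv_zpow, inv_zpow, zpow_neg, zpow_neg]
    have k5 := (k1.zpow_zpow (-b) (-a))
    calc cs ^ (a + b) = (cs ^ a * ct ^ b) * ct ^ (-b) * cs ^ b := by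
          rw [zpow_add]; group
      _ = (ct ^ (-a) * cs ^ (-b)) * ct ^ (-b) * cs ^ b := by rw [e4]
      _ = ct ^ (-a) * (cs ^ (-b) * ct ^ (-b)) * cs ^ b := by group
      _ = ct ^ (-a) * (ct ^ (-b) * cs ^ (-b)) * cs ^ b := by rw [(k1.zpow_zpow (-b) (-b)).eq]
      _ = ct ^ (-(a + b)) := by rw [neg_add, zpow_add]; group
  have h3 : cs ^ (a + b) = ct ^ (a + b) := by
    calc cs ^ (a + b) = s * cs ^ (a + b) * s⁻¹ := by rw [← conj_zpow, scs]
      _ = s * ct ^ (-(a + b)) * s⁻¹ := by rw [h2]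
      _ = ct ^ (a + b) := by rw [← conj_zpow, sct, inv_zpow, zpow_neg, inv_inv]
  have h4 : ct ^ (a + b) = 1 := by
    have h5 : ct ^ (a + b) * ct ^ (a + b) = 1 := by
      nth_rewrite 1 [← h3]
      rw [h2, ← zpow_add]
      simp
    rcases zpow_three hct3 (a + b) with h6 | h6 | h6
    · exact h6
    · rw [h6] at h5 ⊢
      rw [pow_succ, pow_two, h5, one_mul] at hct3
      exact hct3
    · rw [h6] at h5 ⊢
      have h7 : ct * ct = 1 := by
        have : (ct * ct)⁻¹ = 1 := by rw [mul_inv_rev]; exact h5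
        exact inv_eq_one.1 this
      rw [pow_succ, pow_two, h7, one_mul] at hct3
      rw [hct3, inv_one]
  have h5 : t = (cs * ct⁻¹) ^ a := by
    have k6 : Commute cs ct⁻¹ := k1.inv_right
    rw [k6.mul_zpow, hab]
    congr 1
    have : ct ^ b = ct ^ (a + b) * ct ^ (-a) := by rw [← zpow_add]; congr 1; ring
    rw [this, h4, one_mul, inv_zpow, zpow_neg]
  have hD3 : (cs * ct⁻¹) ^ 3 = 1 := by
    have k6 : Commute cs ct⁻¹ := k1.inv_right
    rw [k6.mul_pow, hcs3, inv_pow, hct3, inv_one, one_mul]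
  rcases zpow_three hD3 a with h6 | h6 | h6
  · exact absurd (h5.trans h6) ht1
  · left
    exact h5.trans h6
  · right
    have h7 : t = (cs * ct⁻¹)⁻¹ := h5.trans h6
    calc (z * e * z⁻¹) * ρ * (z * e * z⁻¹)⁻¹ = z * (e * (z⁻¹ * ρ * z) * e⁻¹) * z⁻¹ := by group
      _ = z * t * z⁻¹ := by
          have : z⁻¹ * ρ * z = ρ := by rw [mul_assoc, ← hzρ.eq]; group
          rw [this]
      _ = t⁻¹ := htz
      _ = cs * ct⁻¹ := by rw [h7, inv_inv]

end

end Cfsg.Agent.LargeExtra.W2.U43.ThreeLocJ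
end

private theorem dce_4921b501c6e2 : _root_.True := by
  try have : _root_.True := by simp only [_root_.Cfsg.Agent.LargeExtra.W2.U43.ThreeLoc.tκ.eq_1]
  try have : _root_.True := by simp only [_root_.Cfsg.Agent.LargeExtra.W2.U43.ThreeLoc.P9.eq_1]
  try have : _root_.True := by simp only [_root_.Cfsg.Agent.LargeExtra.W2.U43.ThreeLoc.pp.eq_1]
  exact _root_.True.intro
end

-- part: LargeExtra/W2/U43/Recog
section
prune_inst 0x3000010004000000001800000000004020000002000000004000000000000441200400019060001001000874203a8000000000090030000020008a0001180080040020c000001000010000404800000000000000000000000000000000000000000000000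
set_option linter.all false
open scoped Cfsg.Agent.FastGrp

-- part: LargeExtra/W2/U43/Closing
section
/-!
# Closing: a simple subgroup containing the centraliser of an involution, with one class of involutions,
is the whole group (helper893)
-/

set_option autoImplicit false
set_option linter.unusedSimpArgs false
set_option linter.unusedVariables false

namespace Cfsg.Agent.LargeExtra.W2.U43.Closing

open Cfsg.Agent.Co2Type.Quad Cfsg.Agent.LargeExtra.W2.CM Cfsg.Agent.LargeExtra.W2.U43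
open Cfsg.Agent.LargeExtra.W2.U43.ExistsD

/-- A simple subgroup (not a `2`-group) of a finite simple group is not strongly embedded. -/
theorem not_stronglyEmbedded {G : Type*} [Group G] [Finite G] [IsSimpleGroup G] (H : Subgroup G)
    (hs : IsSimpleGroup H) (h2 : ¬ IsPGroup 2 H) : ¬ Cfsg.IsStronglyEmbedded H := by
  intro hSE
  have hna : ∃ a b : G, a * b ≠ b * a := by
    by_contra hcon
    push Not at hcon
    have hN : H.Normal := ⟨fun n hn g => by rw [hcon g n, mul_inv_cancel_right]; exact hn⟩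
    rcases hN.eq_bot_or_eq_top with h | h
    · have := hs.toNontrivial
      rw [h] at this
      exact not_nontrivial _ this
    · exact hSE.1 h
  obtain ⟨Q, hQ, hQ2⟩ := Cfsg.Agent.StrongEmb.Strong.exists_isSplit hna H hSE
  have hn := hQ.normal
  rcases hn.eq_bot_or_eq_top with h | h
  · -- `Q = 1`: `H` has index two
    have hQb : Q = ⊥ := by
      rw [eq_bot_iff]
      intro x hx
      have h1 : (⟨x, hQ.le hx⟩ : H) ∈ Q.subgroupOf H := Subgroup.mem_subgroupOf.2 hx
      rw [h, Subgroup.mem_bot] at h1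
      rw [Subgroup.mem_bot]
      exact congrArg Subtype.val h1
    have hmem : ∀ g₁ g₂ : G, g₁ ∉ H → g₂ ∉ H → g₂⁻¹ * g₁ ∈ H := by
      intro g₁ g₂ h1 h2
      obtain ⟨u, hu, h3⟩ := hQ.trans g₁ g₂ h1 h2
      rw [hQb, Subgroup.mem_bot] at hu
      rwa [hu, one_mul] at h3
    have hN : H.Normal := by
      refine ⟨fun n hn g => ?_⟩
      by_cases hg : g ∈ H
      · exact mul_mem (mul_mem hg hn) (inv_mem hg)
      · have hg' : g⁻¹ ∉ H := fun h' => hg (by simpa using inv_mem h')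
        have h1 : n⁻¹ * g⁻¹ ∉ H := fun h' => hg' (by
          have := mul_mem hn h'
          rwa [mul_inv_cancel_left] at this)
        have h2 := hmem _ _ hg' h1
        rwa [mul_inv_rev, inv_inv, inv_inv] at h2
    rcases hN.eq_bot_or_eq_top with h' | h'
    · have := hs.toNontrivial
      rw [h'] at this
      exact not_nontrivial _ this
    · exact hSE.1 h'
  · apply h2
    have hle : H ≤ Q := Subgroup.subgroupOf_eq_top.1 h
    exact hQ2.to_le hle

theorem eq_top_of_simple {G : Type*} [Group G] [Finite G] [IsSimpleGroup G] (H : Subgroup G)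
    (hs : IsSimpleGroup H) (h2 : ¬ IsPGroup 2 H) {t : G} (ht : orderOf t = 2)
    (hC : Subgroup.centralizer ({t} : Set G) ≤ H)
    (hone : ∀ x ∈ H, orderOf x = 2 → ∃ g ∈ H, g * t * g⁻¹ = x) : H = ⊤ := by
  by_contra hne
  exact not_stronglyEmbedded H hs h2
    (Cfsg.Agent.TwoFusion.ClosingPrime.isStronglyEmbedded_of_one_class ht hC hone hne)

end Cfsg.Agent.LargeExtra.W2.U43.Closing
end

-- part: LargeExtra/W2/U43/Recog
section
/-!
# Recognition of `U₄(3)` from `Tw` and the fusion `z ~ s ~ y s` (helper893)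
-/

set_option autoImplicit false
set_option linter.unusedSimpArgs false
set_option linter.unusedVariables false

namespace Cfsg.Agent.LargeExtra.W2.U43.Recog

open Cfsg.Agent.Co2Type.Quad Cfsg.Agent.LargeExtra.W2.CM Cfsg.Agent.LargeExtra.W2.U43
open Cfsg.Agent.LargeExtra.W2.U43.InvClass Cfsg.Agent.LargeExtra.W2.U43.Closing
open Cfsg.Agent.LargeExtra.W2.U43.ExistsD Cfsg.Agent.LargeExtra.W2.U43.ThreeLoc
open Cfsg.Agent.LargeExtra.W2.U43.ThreeLocJ Cfsg.Agent.LargeExtra.W2.U43.Ident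

variable {G : Type*} [Group G] {Q : Subgroup G} {z i j k l x₁ x₂ y s d e : G}

/-- `e` may be replaced by `z e z⁻¹`. -/
theorem conj_mirror (h : Tw Q z i j k l x₁ x₂ y s)
    (he : Del z i j (l * z) (k * z) x₁ x₂⁻¹ y (y * s) e) :
    Del z i j (l * z) (k * z) x₁ x₂⁻¹ y (y * s) (z * e * z⁻¹) := by
  have R := h.rules
  have R' := h.mirror.rules
  have iz : z⁻¹ = z := inv_eq_of_mul_eq_one_left R.zz
  have cz : ∀ {c c' w : G}, c * z = z * c → c' * z = z * c' → e * c * e⁻¹ = c' →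
      (z * e * z⁻¹) * c * (z * e * z⁻¹)⁻¹ = c' := by
    intro c c' w hc hc' h1
    calc (z * e * z⁻¹) * c * (z * e * z⁻¹)⁻¹ = z * e * z⁻¹ * (c * z) * e⁻¹ * z⁻¹ := by group
      _ = z * (e * c * e⁻¹) * z⁻¹ := by rw [hc]; group
      _ = c' * z * z⁻¹ := by rw [h1, hc']
      _ = c' := by group
  have cc : ∀ {c : G}, c * z = z * c → e * c = c * e → (z * e * z⁻¹) * c = c * (z * e * z⁻¹) := by
    intro c hc h1
    have h2 := cz (w := 1) hc hc (by rw [h1]; group)
    rwa [mul_inv_eq_iff_eq_mul] at h2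
  refine ⟨?_, ?_, ?_, ?_, ?_, ?_, ?_⟩
  · have := he.d3
    calc (z * e * z⁻¹) ^ 3 = z * e ^ 3 * z⁻¹ := conj_pow
      _ = 1 := by rw [this]; group
  · exact cz (w := 1) rfl (by coll R) he.dz
  · exact cz (w := 1) (by coll R) (by coll R) he.ds
  · exact cc (by coll R) he.dik
  · exact cc (by coll R) he.djl
  · exact cc (by rw [inv_x₂ R]; coll R) he.dr
  · have hy : y * z = z * y := by coll R
    calc y * (z * e * z⁻¹) * y⁻¹ = y * z * e * (y * z)⁻¹ := by group
      _ = z * (y * e * y⁻¹) * z⁻¹ := by rw [hy]; group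
      _ = z * (e⁻¹ * z) * z⁻¹ := by rw [he.dy]
      _ = (z * e * z⁻¹)⁻¹ * z := by group

/-- The recognition of `U₄(3)` after the fusion analysis. -/
theorem recog_tw {G : Type*} [Group G] [Finite G] [IsSimpleGroup G] {Q : Subgroup G}
    {z i j k l x₁ x₂ y s : G} (h : Tw Q z i j k l x₁ x₂ y s) (hs : IsConj z s)
    (hys : IsConj z (y * s)) (F : Type*) [Field F] [Fintype F] (hF : Fintype.card F = 9) :
    Nonempty (G ≃* Cfsg.PSU 4 F 3) := by
  have R := h.rules
  obtain ⟨d, hd⟩ := exists_del h hs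
  obtain ⟨e₀, he₀⟩ := exists_del h.mirror hys
  have h1 : x₁ * (d * x₁ * d⁻¹) = d * x₁ * d⁻¹ * x₁ := j1 h hd
  obtain ⟨e, he, h2⟩ : ∃ e, Del z i j (l * z) (k * z) x₁ x₂⁻¹ y (y * s) e ∧
      e * (x₁ * x₂) * e⁻¹ = d * (x₁ * x₂⁻¹) * d⁻¹ * (d⁻¹ * (x₁ * x₂⁻¹) * d)⁻¹ := by
    rcases j2 h hd he₀ with h3 | h3
    · exact ⟨e₀, he₀, h3⟩
    · exact ⟨z * e₀ * z⁻¹, conj_mirror h he₀, h3⟩
  have zne : z ≠ 1 := h.large.z_ne
  have oz : orderOf z = 2 := orderOf_eq_prime (by rw [pow_two]; exact R.zz) zne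
  set H := Subgroup.closure ({i, j, k, l, x₁, x₂, y, s, d, e} : Set G) with hH
  obtain ⟨hcard, hsimp⟩ := card_simple R zne hd he h1 h2
  have hC : Subgroup.centralizer ({z} : Set G) ≤ H := by
    rw [h.cent, hH]
    apply Subgroup.closure_mono
    intro c hc
    simp only [Set.mem_insert_iff, Set.mem_singleton_iff] at hc ⊢
    tauto
  have hdH : d ∈ H := Subgroup.subset_closure (by simp)
  have heH : e ∈ H := Subgroup.subset_closure (by simp)
  have htop : H = ⊤ := by
    refine eq_top_of_simple H hsimp ?_ oz hC (one_class h hd he H hC hdH heH hcard)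
    intro h2
    haveI : Fact (Nat.Prime 2) := ⟨Nat.prime_two⟩
    obtain ⟨n, hn⟩ := IsPGroup.iff_card.1 h2
    rw [hcard] at hn
    have h5 : 5 ∣ 2 ^ n := by rw [← hn]; norm_num
    exact absurd (Nat.Prime.dvd_of_dvd_pow (by norm_num) h5) (by norm_num)
  obtain ⟨f⟩ := ident R zne hd he h1 h2 F hF
  rw [← hH, htop] at f
  exact ⟨Subgroup.topEquiv.symm.trans f⟩

end Cfsg.Agent.LargeExtra.W2.U43.Recog
end
end

-- part: LargeExtra/W2/U43/Main
section
set_option linter.all false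
open scoped Cfsg.Agent.FastGrp

/-!
# `Case9aa`, case II: `G ≅ U₄(3)` (helper893; parts by helper865, helper123, helper926)
-/

set_option autoImplicit false

namespace Cfsg.Agent.LargeExtra.W2.U43.Main

open Cfsg.Agent.Co2Type.Quad Cfsg.Agent.LargeExtra.W2.U43

/-- A finite simple group of order `≠ 2` has no subgroup of index two. -/
theorem index_ne_two {G : Type*} [Group G] [IsSimpleGroup G] (hc : Nat.card G ≠ 2) (H : Subgroup G) :
    H.index ≠ 2 := by
  intro h
  have hn := Subgroup.normal_of_index_eq_two h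
  rcases hn.eq_bot_or_eq_top with h1 | h1
  · rw [h1, Subgroup.index_bot] at h
    exact hc h
  · rw [h1, Subgroup.index_top] at h
    exact absurd h (by norm_num)

/-- **`Case9aa`, case II.** -/
theorem recog_aa_II {G : Type*} [Group G] [Finite G] [IsSimpleGroup G] {Q : Subgroup G}
    {z i j k l x₁ x₂ y s : G} (h : Case9aa Q z i j k l x₁ x₂ y s)
    (hII : ∃ g, g * z * g⁻¹ ∈ Q ∧ g * z * g⁻¹ ≠ z) (F : Type*) [Field F] [Fintype F]
    (hF : Fintype.card F = 9) : Nonempty (G ≃* Cfsg.PSU 4 F 3) := by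
  have hc : Nat.card G ≠ 2 := by
    intro h2
    have h3 := Subgroup.card_subgroup_dvd_card (Subgroup.centralizer ({z} : Set G))
    rw [h.card_cent, h2] at h3
    exact absurd (Nat.le_of_dvd (by norm_num) h3) (by norm_num)
  obtain ⟨hT, hs, hys⟩ := Fusion.fusion h hII (index_ne_two hc)
  exact Recog.recog_tw hT hs hys F hF

end Cfsg.Agent.LargeExtra.W2.U43.Main
end
end
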